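import Cfsg.Agent.H33.Tor.Count
import Cfsg.Agent.H103.Tor.PSLTwoRow
import Cfsg.Agent.S0253
import Cfsg.Agent.S0254

/-!
# S3235: the alternating groups (helper103)
-/

set_option autoImplicit false

namespace Cfsg.Agent.H103.Tor.Alt

open Subgroup Equiv Equiv.Perm Cfsg

universe u w

variable {α : Type u} [Fintype α] [DecidableEq α]

omit [Fintype α] [DecidableEq α] in
/-- the points moved by an element of order `p` have orbits of length `p` -/
theorem pow_ne {p : ℕ} (hp : p.Prime) {σ : Perm α} (hσ : σ ^ p = 1) {c : α} (hc : σ c ≠ c) {i : ℕ} (hi : 0 < i)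
    (hip : i < p) : (σ ^ i) c ≠ c := by
  intro h
  apply hc
  have hcop : Nat.Coprime i p := by
    rw [Nat.coprime_comm]
    exact (Nat.Prime.coprime_iff_not_dvd hp).2 (fun hd => by have := Nat.le_of_dvd hi hd; omega)
  have h1 : (1 : ℤ) = i * Nat.gcdA i p + p * Nat.gcdB i p := by
    rw [← Nat.gcd_eq_gcd_ab, Nat.coprime_iff_gcd_eq_one.1 hcop]; rfl
  have h2 : σ = (σ ^ i) ^ (Nat.gcdA i p) := by
    calc σ = σ ^ (1 : ℤ) := (zpow_one σ).symm
      _ = σ ^ ((i : ℤ) * Nat.gcdA i p + p * Nat.gcdB i p) := by rw [← h1]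
      _ = (σ ^ i) ^ (Nat.gcdA i p) * (σ ^ p) ^ (Nat.gcdB i p) := by
        rw [zpow_add, zpow_mul, zpow_mul, zpow_natCast, zpow_natCast]
      _ = (σ ^ i) ^ (Nat.gcdA i p) := by rw [hσ, one_zpow, mul_one]
  rw [h2]
  exact Equiv.Perm.zpow_apply_eq_self_of_apply_eq_self h _

/-- the moved points form one orbit -/
theorem sameCycle {p : ℕ} (hp : p.Prime) (hp5 : 5 ≤ p) {A : Subgroup (alternatingGroup α)} (h : Pr p A)
    {x : alternatingGroup α} (hA : A = zpowers x) {a b : α} (ha : (x : Perm α) a ≠ a) (hb : (x : Perm α) b ≠ b) :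
    (x : Perm α).SameCycle a b := by
  by_contra hab
  have hxo : orderOf x = p := by rw [← Nat.card_zpowers, ← hA, h.card]
  have hxA : x ∈ A := by rw [hA]; exact mem_zpowers x
  set σ : Perm α := (x : Perm α) with hσd
  have hσ : σ ^ p = 1 := by
    have : x ^ p = 1 := by rw [← hxo]; exact pow_orderOf_eq_one x
    have h2 := congrArg (fun z : alternatingGroup α => (z : Perm α)) this
    simpa using h2
  have hper : ∀ c : α, σ c ≠ c → ∀ i : ℕ, 0 < i → i < p → (σ ^ i) c ≠ c :=
    fun c hc i hi hip => pow_ne hp hσ hc hi hip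
  set a1 := σ a with ha1
  set a2 := σ a1 with ha2
  set a3 := σ a2 with ha3
  have e1 : (σ ^ 1) a = a1 := by rw [pow_one]
  have e2 : (σ ^ 2) a = a2 := by rw [pow_succ', Perm.mul_apply, e1]
  have e3 : (σ ^ 3) a = a3 := by rw [pow_succ', Perm.mul_apply, e2]
  have n1 : a1 ≠ a := by rw [← e1]; exact hper a ha 1 (by norm_num) (by omega)
  have n2 : a2 ≠ a := by rw [← e2]; exact hper a ha 2 (by norm_num) (by omega)
  have n3 : a3 ≠ a := by rw [← e3]; exact hper a ha 3 (by norm_num) (by omega)
  have n21 : a2 ≠ a1 := fun h => n1 (σ.injective h)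
  have n31 : a3 ≠ a1 := fun h => n2 (σ.injective h)
  have n32 : a3 ≠ a2 := fun h => n21 (σ.injective h)
  have n42 : σ a3 ≠ a2 := fun h => n31 (σ.injective h)
  set g : Perm α := swap a a1 * swap a1 a2 with hg
  have g0 : g a = a1 := by
    rw [hg, Perm.mul_apply, swap_apply_of_ne_of_ne n1.symm n2.symm, swap_apply_left]
  have g1 : g a1 = a2 := by
    rw [hg, Perm.mul_apply, swap_apply_left, swap_apply_of_ne_of_ne n2 n21]
  have g2 : g a2 = a := by
    rw [hg, Perm.mul_apply, swap_apply_right, swap_apply_right]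
  have gt : ∀ t, t ≠ a → t ≠ a1 → t ≠ a2 → g t = t := by
    intro t h0 h1 h2
    rw [hg, Perm.mul_apply, swap_apply_of_ne_of_ne h1 h2, swap_apply_of_ne_of_ne h0 h1]
  have gi : ∀ {s t : α}, g s = t → g⁻¹ t = s := by
    intro s t h; rw [← h]; simp
  have hgA : g ∈ alternatingGroup α := by
    rw [mem_alternatingGroup, hg, map_mul, sign_swap n1.symm, sign_swap n21.symm]; norm_num
  let γ : alternatingGroup α := ⟨g, hgA⟩
  have hyA : γ * x * γ⁻¹ ∈ cj γ A := conj_mem_cj hxA
  by_cases hc : Cm A (cj γ A)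
  · have h1 : x * (γ * x * γ⁻¹) = γ * x * γ⁻¹ * x := hc _ hxA _ hyA
    have h2 : σ * (g * σ * g⁻¹) = g * σ * g⁻¹ * σ := congrArg (fun z : alternatingGroup α => (z : Perm α)) h1
    have h3 := DFunLike.congr_fun h2 a
    simp only [Perm.mul_apply] at h3
    rw [gi g2, ← ha3, gt a3 n3 n31 n32, ← ha1, gi g0, ← ha1, g1] at h3
    exact n42 h3
  · have hpair := h.exists_pair hp hp5 hc
    have hperf := hpair.perfect hp hp5
    -- points of the orbit of `b` are not moved by `g`
    have hO : ∀ t, σ.SameCycle b t → g t = t := by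
      intro t ht
      have hat : ∀ k : ℕ, t ≠ (σ ^ k) a := by
        rintro k rfl
        apply hab
        exact (SameCycle.refl σ a).pow_right.trans ht.symm
      exact gt t (by simpa using hat 0) (by rw [← e1]; exact hat 1) (by rw [← e2]; exact hat 2)
    let Y : Subgroup (alternatingGroup α) :=
      { carrier := {w | ∃ k : ℤ, ∀ t, σ.SameCycle b t → (w : Perm α) t = (σ ^ k) t}
        one_mem' := ⟨0, fun t _ => by simp⟩
        mul_mem' := by
          rintro w w' ⟨k, hk⟩ ⟨k', hk'⟩
          refine ⟨k + k', fun t ht => ?_⟩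
          show (w : Perm α) ((w' : Perm α) t) = _
          rw [hk' t ht, hk _ (sameCycle_zpow_right.2 ht), zpow_add, Perm.mul_apply]
        inv_mem' := by
          rintro w ⟨k, hk⟩
          refine ⟨-k, fun t ht => ?_⟩
          show (w : Perm α)⁻¹ t = _
          rw [Perm.inv_eq_iff_eq, hk _ (sameCycle_zpow_right.2 ht), ← Perm.mul_apply, ← zpow_add, add_neg_cancel,
            zpow_zero, Perm.one_apply] }
    let Y₀ : Subgroup (alternatingGroup α) :=
      { carrier := {w | ∀ t, σ.SameCycle b t → (w : Perm α) t = t}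
        one_mem' := fun t _ => by simp
        mul_mem' := by
          intro w w' hk hk' t ht
          show (w : Perm α) ((w' : Perm α) t) = _
          rw [hk' t ht, hk t ht]
        inv_mem' := by
          intro w hk t ht
          show (w : Perm α)⁻¹ t = _
          rw [Perm.inv_eq_iff_eq, hk t ht] }
    have hxY : x ∈ Y := ⟨1, fun t _ => by rw [zpow_one]⟩
    have hyY : γ * x * γ⁻¹ ∈ Y := by
      refine ⟨1, fun t ht => ?_⟩
      show g (σ (g⁻¹ t)) = _
      have h1 : σ.SameCycle b (σ t) := sameCycle_apply_right.2 ht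
      rw [gi (hO t ht), hO _ h1, zpow_one]
    have hAY : A ≤ Y := by rw [hA, zpowers_le]; exact hxY
    have hcY : cj γ A ≤ Y := by
      rintro _ ⟨c, hc, rfl⟩
      rw [hA] at hc
      obtain ⟨i, rfl⟩ := hc
      have : (MulAut.conj γ).toMonoidHom (x ^ i) = (γ * x * γ⁻¹) ^ i := by
        rw [map_zpow]; rfl
      show (MulAut.conj γ).toMonoidHom (x ^ i) ∈ Y
      rw [this]
      exact zpow_mem hyY i
    have hYY : ⁅Y, Y⁆ ≤ Y₀ := by
      rw [commutator_le]
      rintro w ⟨k, hk⟩ w' ⟨k', hk'⟩ t ht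
      show (w : Perm α) ((w' : Perm α) ((w : Perm α)⁻¹ ((w' : Perm α)⁻¹ t))) = t
      have i1 : (w' : Perm α)⁻¹ t = (σ ^ (-k')) t := by
        rw [Perm.inv_eq_iff_eq, hk' _ (sameCycle_zpow_right.2 ht), ← Perm.mul_apply, ← zpow_add, add_neg_cancel,
            zpow_zero, Perm.one_apply]
      have i2 : (w : Perm α)⁻¹ ((σ ^ (-k')) t) = (σ ^ (-k)) ((σ ^ (-k')) t) := by
        rw [Perm.inv_eq_iff_eq, hk _ (sameCycle_zpow_right.2 (sameCycle_zpow_right.2 ht)), ← Perm.mul_apply (σ ^ k),
          ← zpow_add, add_neg_cancel, zpow_zero, Perm.one_apply]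
      rw [i1, i2, hk' _ (sameCycle_zpow_right.2 (sameCycle_zpow_right.2 ht)),
        hk _ (sameCycle_zpow_right.2 (sameCycle_zpow_right.2 (sameCycle_zpow_right.2 ht))), ← Perm.mul_apply,
        ← Perm.mul_apply, ← Perm.mul_apply, ← zpow_add, ← zpow_add, ← zpow_add]
      have : k + k' + -k + -k' = 0 := by ring
      rw [this, zpow_zero, Perm.one_apply]
    have h1 : A ⊔ cj γ A ≤ Y₀ := by
      rw [← hperf]
      exact (commutator_mono (sup_le hAY hcY) (sup_le hAY hcY)).trans hYY
    exact hb (h1 (mem_sup_left hxA) b (SameCycle.refl σ b))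


/-- reduction to the orbit -/
theorem restrict {p : ℕ} {A : Subgroup (alternatingGroup α)} (h : Pr p A) {x : alternatingGroup α}
    (hA : A = zpowers x) {S : Finset α} (hS : (x : Perm α).support ⊆ S) :
    Pr p (A.comap (alternatingGroup.ofSubtype S)) := by
  apply Pr.of_injective (f := alternatingGroup.ofSubtype S) alternatingGroup.ofSubtype_injective
  have : (A.comap (alternatingGroup.ofSubtype S)).map (alternatingGroup.ofSubtype S) = A := by
    rw [Subgroup.map_comap_eq, inf_eq_right.2]
    rw [hA, zpowers_le]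
    exact (alternatingGroup.mem_range_ofSubtype_iff S x).2 hS
  rwa [this]

theorem factorial_lt {p : ℕ} (hp : 7 ≤ p) : 2 * p ^ 3 < p.factorial := by
  induction p, hp using Nat.le_induction with
  | base => decide
  | succ p hp ih =>
    rw [Nat.factorial_succ]
    have h1 : (p + 1) ^ 2 ≤ p ^ 3 := by nlinarith [sq_nonneg (p : ℤ), mul_le_mul hp hp (by norm_num) (by omega)]
    calc 2 * (p + 1) ^ 3 = (p + 1) * (2 * (p + 1) ^ 2) := by ring
      _ ≤ (p + 1) * (2 * p ^ 3) := by gcongr
      _ < (p + 1) * p.factorial := by gcongr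

/-- the full cycle -/
theorem full {p : ℕ} (hp : p.Prime) (hp7 : 7 ≤ p) (hα : Fintype.card α = p) {A : Subgroup (alternatingGroup α)}
    (h : Pr p A) : False := by
  classical
  obtain ⟨x, hxA, hxo, hA⟩ := Cfsg.Agent.H33.Tor.exists_gen hp h.card
  have hp5 : 5 ≤ p := by omega
  set σ : Perm α := (x : Perm α) with hσd
  have hσ : σ ^ p = 1 := by
    have : x ^ p = 1 := by rw [← hxo]; exact pow_orderOf_eq_one x
    have h2 := congrArg (fun z : alternatingGroup α => (z : Perm α)) this
    simpa using h2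
  obtain ⟨a, ha⟩ : ∃ a, σ a ≠ a := by
    by_contra hn
    push Not at hn
    have : x = 1 := Subtype.ext (Equiv.ext hn)
    rw [this, orderOf_one] at hxo
    omega
  -- the orbit of `a` is everything
  have hinj : Function.Injective (fun i : Fin p => (σ ^ (i : ℕ)) a) := by
    have key : ∀ i j : ℕ, i < j → j < p → (σ ^ i) a ≠ (σ ^ j) a := by
      intro i j hij hj he
      apply pow_ne hp hσ ha (i := j - i) (by omega) (by omega)
      have h1 : (σ ^ j) a = (σ ^ i) ((σ ^ (j - i)) a) := by
        rw [← Perm.mul_apply, ← pow_add, Nat.add_sub_cancel' hij.le]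
      rw [h1] at he
      exact ((σ ^ i).injective he).symm
    intro i j hij
    rcases lt_trichotomy (i : ℕ) (j : ℕ) with h1 | h1 | h1
    · exact absurd hij (key i j h1 j.2)
    · exact Fin.ext h1
    · exact absurd hij.symm (key j i h1 i.2)
  have hsurj : Function.Surjective (fun i : Fin p => (σ ^ (i : ℕ)) a) :=
    ((Fintype.bijective_iff_injective_and_card _).2 ⟨hinj, by rw [Fintype.card_fin, hα]⟩).2
  have hC : centralizer (A : Set (alternatingGroup α)) = A := by
    apply le_antisymm
    · intro w hw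
      have hc : x * w = w * x := mem_centralizer_iff.1 hw x hxA
      have hc2 : Commute σ (w : Perm α) := congrArg (fun z : alternatingGroup α => (z : Perm α)) hc
      obtain ⟨i, hi⟩ := hsurj ((w : Perm α) a)
      have hw' : w = x ^ (i : ℕ) := by
        apply Subtype.ext
        apply Equiv.ext
        intro b
        obtain ⟨j, rfl⟩ := hsurj b
        show (w : Perm α) ((σ ^ (j : ℕ)) a) = (σ ^ (i : ℕ)) ((σ ^ (j : ℕ)) a)
        have h1 := DFunLike.congr_fun (hc2.pow_left (j : ℕ)).eq a
        simp only [Perm.mul_apply] at h1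
        rw [← h1, ← hi]
        show (σ ^ (j : ℕ)) ((σ ^ (i : ℕ)) a) = _
        rw [← Perm.mul_apply, ← Perm.mul_apply, ← pow_add, ← pow_add, add_comm]
      rw [hw']
      exact pow_mem hxA _
    · rw [hA]
      rintro _ ⟨i, rfl⟩
      rw [mem_centralizer_iff]
      rintro _ ⟨j, rfl⟩
      show x ^ j * x ^ i = x ^ i * x ^ j
      rw [← zpow_add, ← zpow_add, add_comm]
  have hn5 : 5 ≤ Nat.card α := by rw [Nat.card_eq_fintype_card, hα]; omega
  have hs : IsSimpleGroup (alternatingGroup α) := alternatingGroup.isSimpleGroup hn5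
  have hna : ¬ ∀ y z : alternatingGroup α, y * z = z * y := by
    intro hc
    have h1 := (alternatingGroup.isMulCommutative_iff_card_le_three (α := α)).1 ⟨⟨hc⟩⟩
    omega
  obtain ⟨g₀, hg₀⟩ := h.exists_noncomm_simple hp hp5 hna
  have hcard : Nat.card (centralizer (A : Set (alternatingGroup α))) = p := by rw [hC]; exact h.card
  have h16 : ¬ 16 ^ Nat.card (centralizer (A : Set (alternatingGroup α))) ≡ 1 [MOD p] := by
    rw [hcard]
    intro hm
    have hpf := Fact.mk hp
    have h1 : (16 : ZMod p) ^ p = 1 := by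
      have := (ZMod.natCast_eq_natCast_iff _ _ _).2 hm
      push_cast at this
      exact this
    rw [ZMod.pow_card] at h1
    have h2 : ((15 : ℕ) : ZMod p) = 0 := by
      have : (15 : ZMod p) = 16 - 1 := by norm_num
      push_cast
      rw [this, h1, sub_self]
    have h3 := (ZMod.natCast_eq_zero_iff 15 p).1 h2
    have h4 : p ∣ 3 * 5 := h3
    rcases (Nat.Prime.dvd_mul hp).1 h4 with h5 | h5
    · have := Nat.le_of_dvd (by norm_num) h5; omega
    · have := Nat.le_of_dvd (by norm_num) h5; omega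
  have h1 := Cfsg.Agent.H33.Tor.count_small hp hp5 h hg₀ h16
  rw [hcard] at h1
  have hnt : Nontrivial α := by
    rw [← Fintype.one_lt_card_iff_nontrivial, hα]; omega
  have h2 := two_mul_nat_card_alternatingGroup (α := α)
  rw [Nat.card_perm, Nat.card_eq_fintype_card (α := α), hα] at h2
  have h3 := factorial_lt hp7
  have h4 : p + (p - 1) * p = p * p := by
    obtain ⟨c, rfl⟩ : ∃ c, p = c + 1 := ⟨p - 1, by omega⟩
    simp only [Nat.add_sub_cancel]; ring
  rw [h4, ← mul_assoc] at h1
  have h5 : p * Nat.card (alternatingGroup α) ≤ p * p ^ 3 := by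
    calc _ ≤ p ^ 2 * p * p := h1
      _ = p * p ^ 3 := by ring
  have h6 := Nat.le_of_mul_le_mul_left h5 (by omega)
  omega

/-- six points -/
theorem six {A : Subgroup (alternatingGroup α)} (hα : Fintype.card α = 6) (h : Pr 5 A) : False := by
  have e0 : α ≃ Fin 6 := Fintype.equivOfCardEq (by rw [hα, Fintype.card_fin])
  let F := GaloisField 3 2
  have : Fintype F := Fintype.ofFinite F
  have hF : Fintype.card F = 9 := by
    rw [← Nat.card_eq_fintype_card, GaloisField.card 3 2 (by norm_num)]; norm_num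
  have h50 : ((5 : ℕ) : F) ≠ 0 := by
    intro h0
    have := (CharP.cast_eq_zero_iff F 3 5).1 h0
    omega
  obtain ⟨e⟩ := S0254.result hF
  have h1 := (h.map_equiv (Equiv.altCongrHom e0)).map_equiv e.symm
  have := (PSLTwo.psl2_cross (by norm_num) le_rfl h50 (by omega) h1).2
  omega

/-- **the alternating groups** -/
theorem row_alt {p : ℕ} (hp : p.Prime) (hp5 : 5 ≤ p) (K : Type w) [Group K] [Finite K] [IsSimpleGroup K]
    (hK : IsAlternating K) : Row p K := by
  classical
  obtain ⟨n, hn, ⟨e⟩⟩ := hK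
  intro B hB
  have h := hB.map_equiv e
  set A := B.map e.toMonoidHom with hAd
  obtain ⟨x, hxA, hxo, hA⟩ := Cfsg.Agent.H33.Tor.exists_gen hp h.card
  set σ : Perm (Fin n) := (x : Perm (Fin n)) with hσd
  have hσ : σ ^ p = 1 := by
    have : x ^ p = 1 := by rw [← hxo]; exact pow_orderOf_eq_one x
    have h2 := congrArg (fun z : alternatingGroup (Fin n) => (z : Perm (Fin n))) this
    simpa using h2
  obtain ⟨a, ha⟩ : ∃ a, σ a ≠ a := by
    by_contra hn
    push Not at hn
    have : x = 1 := Subtype.ext (Equiv.ext hn)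
    rw [this, orderOf_one] at hxo
    omega
  -- the support is the orbit of `a`
  have hinj : Function.Injective (fun i : Fin p => (σ ^ (i : ℕ)) a) := by
    have key : ∀ i j : ℕ, i < j → j < p → (σ ^ i) a ≠ (σ ^ j) a := by
      intro i j hij hj he
      apply pow_ne hp hσ ha (i := j - i) (by omega) (by omega)
      have h1 : (σ ^ j) a = (σ ^ i) ((σ ^ (j - i)) a) := by
        rw [← Perm.mul_apply, ← pow_add, Nat.add_sub_cancel' hij.le]
      rw [h1] at he
      exact ((σ ^ i).injective he).symm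
    intro i j hij
    rcases lt_trichotomy (i : ℕ) (j : ℕ) with h1 | h1 | h1
    · exact absurd hij (key i j h1 j.2)
    · exact Fin.ext h1
    · exact absurd hij.symm (key j i h1 i.2)
  set S : Finset (Fin n) := Finset.univ.image (fun i : Fin p => (σ ^ (i : ℕ)) a) with hS
  have hScard : S.card = p := by
    rw [hS, Finset.card_image_of_injective _ hinj, Finset.card_univ, Fintype.card_fin]
  have hsupp : σ.support ⊆ S := by
    intro b hb
    rw [mem_support] at hb
    obtain ⟨k, hk⟩ := sameCycle hp hp5 h hA ha hb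
    rw [hS, Finset.mem_image]
    have hpp : (0 : ℤ) < p := by exact_mod_cast hp.pos
    have hk0 := Int.emod_nonneg k hpp.ne'
    have hk1 := Int.emod_lt_of_pos k hpp
    obtain ⟨j, hj⟩ := Int.eq_ofNat_of_zero_le hk0
    refine ⟨⟨j, by omega⟩, Finset.mem_univ _, ?_⟩
    show (σ ^ j) a = b
    rw [← hk]
    have h1 : k = p * (k / p) + j := by rw [← hj]; exact (Int.mul_ediv_add_emod k p).symm
    have h2 : σ ^ k = σ ^ j := by
      rw [h1, zpow_add, zpow_mul, zpow_natCast, hσ, one_zpow, one_mul, zpow_natCast]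
    rw [h2]
  rcases Nat.lt_or_ge 5 p with h5 | h5
  · have hp7 : 7 ≤ p := by
      by_contra h7
      have : p = 6 := by omega
      rw [this] at hp
      exact absurd hp (by norm_num)
    exact (full hp hp7 (by rw [Fintype.card_coe, hScard]) (restrict h hA hsupp)).elim
  · obtain rfl : p = 5 := by omega
    rcases Nat.lt_or_ge 5 n with h6 | h6
    · exfalso
      obtain ⟨b, hb⟩ : ∃ b, b ∉ S := by
        by_contra hc
        push Not at hc
        have : S = Finset.univ := Finset.eq_univ_iff_forall.2 hc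
        rw [this, Finset.card_univ, Fintype.card_fin] at hScard
        omega
      exact six (by rw [Fintype.card_coe, Finset.card_insert_of_notMem hb, hScard])
        (restrict h hA (hsupp.trans (Finset.subset_insert b S)))
    · obtain rfl : n = 5 := by omega
      have : Fact (Nat.Prime 5) := ⟨hp⟩
      obtain ⟨f⟩ := S0253.result (F := ZMod 5) (ZMod.card 5)
      exact H451.Tor.target_psl2 ⟨ZMod 5, inferInstance, inferInstance, inferInstance, ⟨e.trans f.symm⟩⟩

end Cfsg.Agent.H103.Tor.Alt
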