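import Cfsg.Agent.H103.Tor.Iface
import Cfsg.Agent.H103.Tor.Asm

/-!
# S3235: the rows, with induction (helper103)

As `Rows`, but the sporadic row may use the theorem for smaller groups.
-/

set_option autoImplicit false

namespace Cfsg.Agent.H103.Tor

open Subgroup Cfsg

universe w

/-- the rows of S3235, the sporadic row with the induction hypothesis -/
structure RowsI (p : ℕ) : Prop where
  alt : ∀ (K : Type w) [Group K] [Finite K] [IsSimpleGroup K], IsAlternating K → Row p K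
  psl2 : ∀ (K : Type w) [Group K] [Finite K] [IsSimpleGroup K],
    (∃ (F : Type) (_ : Field F) (_ : Fintype F), 4 ≤ Fintype.card F ∧
      Nonempty (K ≃* Matrix.ProjectiveSpecialLinearGroup (Fin 2) F)) → Row p K
  pslOwn : ∀ (K : Type w) [Group K] [Finite K] [IsSimpleGroup K],
    (∃ (F : Type) (_ : Field F) (_ : Fintype F) (_ : CharP F p) (n : ℕ), 3 ≤ n ∧
      Nonempty (K ≃* Matrix.ProjectiveSpecialLinearGroup (Fin n) F)) → Row p K
  pslCross : ∀ (K : Type w) [Group K] [Finite K] [IsSimpleGroup K],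
    (∃ (F : Type) (_ : Field F) (_ : Fintype F) (n : ℕ), (p : F) ≠ 0 ∧ 3 ≤ n ∧
      Nonempty (K ≃* Matrix.ProjectiveSpecialLinearGroup (Fin n) F)) → Row p K
  pspOwn : ∀ (K : Type w) [Group K] [Finite K] [IsSimpleGroup K], IsPSpChar p K → Row p K
  pspCross : ∀ (K : Type w) [Group K] [Finite K] [IsSimpleGroup K] (r : ℕ), r ≠ p → IsPSpChar r K → Row p K
  psuOwn : ∀ (K : Type w) [Group K] [Finite K] [IsSimpleGroup K], IsPSUChar p K → Row p K
  psuCross : ∀ (K : Type w) [Group K] [Finite K] [IsSimpleGroup K] (r : ℕ), r ≠ p → IsPSUChar r K → Row p K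
  oddOwn : ∀ (K : Type w) [Group K] [Finite K] [IsSimpleGroup K], IsPOmegaOddChar p K → Row p K
  oddCross : ∀ (K : Type w) [Group K] [Finite K] [IsSimpleGroup K] (r : ℕ), r ≠ p → IsPOmegaOddChar r K → Row p K
  plusOwn : ∀ (K : Type w) [Group K] [Finite K] [IsSimpleGroup K], IsPOmegaPlusChar p K → Row p K
  plusCross : ∀ (K : Type w) [Group K] [Finite K] [IsSimpleGroup K] (r : ℕ), r ≠ p → IsPOmegaPlusChar r K → Row p K
  minusOwn : ∀ (K : Type w) [Group K] [Finite K] [IsSimpleGroup K], IsPOmegaMinusChar p K → Row p K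
  minusCross : ∀ (K : Type w) [Group K] [Finite K] [IsSimpleGroup K] (r : ℕ), r ≠ p → IsPOmegaMinusChar r K →
    Row p K
  g2Own : ∀ (K : Type w) [Group K] [Finite K] [IsSimpleGroup K],
    (∃ (F : Type) (_ : Field F) (_ : Fintype F) (_ : CharP F p), Nonempty (K ≃* Lie.chevG2.group F)) → Row p K
  f4Own : ∀ (K : Type w) [Group K] [Finite K] [IsSimpleGroup K],
    (∃ (F : Type) (_ : Field F) (_ : Fintype F) (_ : CharP F p), Nonempty (K ≃* Lie.chevF4.group F)) → Row p K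
  e6Own : ∀ (K : Type w) [Group K] [Finite K] [IsSimpleGroup K],
    (∃ (F : Type) (_ : Field F) (_ : Fintype F) (_ : CharP F p), Nonempty (K ≃* Lie.chevE6.group F)) → Row p K
  e7Own : ∀ (K : Type w) [Group K] [Finite K] [IsSimpleGroup K],
    (∃ (F : Type) (_ : Field F) (_ : Fintype F) (_ : CharP F p), Nonempty (K ≃* Lie.chevE7.group F)) → Row p K
  e8Own : ∀ (K : Type w) [Group K] [Finite K] [IsSimpleGroup K],
    (∃ (F : Type) (_ : Field F) (_ : Fintype F) (_ : CharP F p), Nonempty (K ≃* Lie.chevE8.group F)) → Row p K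
  chevCross : ∀ (K : Type w) [Group K] [Finite K] [IsSimpleGroup K] (r : ℕ), r ≠ p → IsExceptionalChevChar r K →
    Row p K
  twE6Own : ∀ (K : Type w) [Group K] [Finite K] [IsSimpleGroup K],
    (∃ (E : Type) (_ : Field E) (_ : Fintype E) (_ : CharP E p) (q : ℕ), IsPrimePow q ∧ Fintype.card E = q ^ 2 ∧
      Nonempty (K ≃* Lie.twistedE6 E q)) → Row p K
  twD4Own : ∀ (K : Type w) [Group K] [Finite K] [IsSimpleGroup K],
    (∃ (E : Type) (_ : Field E) (_ : Fintype E) (_ : CharP E p) (q : ℕ), IsPrimePow q ∧ Fintype.card E = q ^ 3 ∧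
      Nonempty (K ≃* Lie.twistedD4 E q)) → Row p K
  twCross : ∀ (K : Type w) [Group K] [Finite K] [IsSimpleGroup K] (r : ℕ), r ≠ p → IsTwistedE6D4Char r K → Row p K
  sz : ∀ (K : Type w) [Group K] [Finite K] [IsSimpleGroup K], Lie.IsoSuzuki K → Row p K
  ree : ∀ (K : Type w) [Group K] [Finite K] [IsSimpleGroup K], Lie.IsoRee K → Row p K
  twF4 : ∀ (K : Type w) [Group K] [Finite K] [IsSimpleGroup K], Lie.Iso2F4 K → Row p K
  tits : ∀ (K : Type w) [Group K] [Finite K] [IsSimpleGroup K], Lie.IsoTits K → Row p K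
  spor : ∀ (K : Type w) [Group K] [Finite K] [IsSimpleGroup K], IsSporadicGroup K →
    (∀ (L : Type w) [Group L] [Finite L] [IsSimpleGroup L], Nat.card L < Nat.card K → (¬ ∀ x y : L, x * y = y * x) →
      Row p L) → Row p K

theorem RowsI.step {p : ℕ} (hp : p.Prime) (hR : RowsI.{w} p) (K : Type w) [Group K] [Finite K] [IsSimpleGroup K]
    (hna : ¬ ∀ x y : K, x * y = y * x) (hK : IsKnownSimple' K)
    (hIH : ∀ (L : Type w) [Group L] [Finite L] [IsSimpleGroup L], Nat.card L < Nat.card K →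
      (¬ ∀ x y : L, x * y = y * x) → Row p L) : Row p K := by
  rcases hK with h | h | h | h | h | h | h | h | h | h
  · exfalso
    apply hna
    have : Fact (Nat.card K).Prime := ⟨h⟩
    have hc : IsCyclic K := isCyclic_of_prime_card rfl
    exact hc.commGroup.mul_comm
  · exact hR.alt K h
  · obtain ⟨F, i1, i2, n, hn, hn2, e⟩ := h
    rcases Nat.lt_or_ge 2 n with h3 | h3
    · by_cases hpF : (p : F) = 0
      · exact hR.pslOwn K ⟨F, i1, i2, charP_of_cast hp F hpF, n, h3, e⟩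
      · exact hR.pslCross K ⟨F, i1, i2, n, hpF, h3, e⟩
    · have h4 : n = 2 := by omega
      subst h4
      exact hR.psl2 K ⟨F, i1, i2, hn2 rfl, e⟩
  · obtain ⟨F, i1, i2, m, hm, hm2, e⟩ := h
    obtain ⟨r, ⟨hr⟩⟩ := exists_char F
    by_cases h1 : r = p
    · subst h1; exact hR.pspOwn K ⟨F, i1, i2, hr, m, hm, hm2, e⟩
    · exact hR.pspCross K r h1 ⟨F, i1, i2, hr, m, hm, hm2, e⟩
  · obtain ⟨F, i1, i2, n, q, hq, hn, hn2, e⟩ := h
    obtain ⟨r, ⟨hr⟩⟩ := exists_char F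
    by_cases h1 : r = p
    · subst h1; exact hR.psuOwn K ⟨F, i1, i2, hr, n, q, hq, hn, hn2, e⟩
    · exact hR.psuCross K r h1 ⟨F, i1, i2, hr, n, q, hq, hn, hn2, e⟩
  · obtain ⟨F, i1, i2, m, hm, hm2, e⟩ := h
    obtain ⟨r, ⟨hr⟩⟩ := exists_char F
    by_cases h1 : r = p
    · subst h1; exact hR.oddOwn K ⟨F, i1, i2, hr, m, hm, hm2, e⟩
    · exact hR.oddCross K r h1 ⟨F, i1, i2, hr, m, hm, hm2, e⟩
  · obtain ⟨F, i1, i2, m, hm, e⟩ := h
    obtain ⟨r, ⟨hr⟩⟩ := exists_char F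
    by_cases h1 : r = p
    · subst h1; exact hR.plusOwn K ⟨F, i1, i2, hr, m, hm, e⟩
    · exact hR.plusCross K r h1 ⟨F, i1, i2, hr, m, hm, e⟩
  · obtain ⟨F, i1, i2, m, a, b, hm, hab, e⟩ := h
    obtain ⟨r, ⟨hr⟩⟩ := exists_char F
    by_cases h1 : r = p
    · subst h1; exact hR.minusOwn K ⟨F, i1, i2, hr, m, a, b, hm, hab, e⟩
    · exact hR.minusCross K r h1 ⟨F, i1, i2, hr, m, a, b, hm, hab, e⟩
  · rcases h with h | h | h | h | h | h | h | h | h | h | h
    · obtain ⟨F, i1, i2, h3, e⟩ := h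
      obtain ⟨r, ⟨hr⟩⟩ := exists_char F
      by_cases h1 : r = p
      · subst h1; exact hR.g2Own K ⟨F, i1, i2, hr, e⟩
      · exact hR.chevCross K r h1 ⟨F, i1, i2, hr, Or.inl ⟨h3, e⟩⟩
    · obtain ⟨F, i1, i2, e⟩ := h
      obtain ⟨r, ⟨hr⟩⟩ := exists_char F
      by_cases h1 : r = p
      · subst h1; exact hR.f4Own K ⟨F, i1, i2, hr, e⟩
      · exact hR.chevCross K r h1 ⟨F, i1, i2, hr, Or.inr (Or.inl e)⟩
    · obtain ⟨F, i1, i2, e⟩ := h
      obtain ⟨r, ⟨hr⟩⟩ := exists_char F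
      by_cases h1 : r = p
      · subst h1; exact hR.e6Own K ⟨F, i1, i2, hr, e⟩
      · exact hR.chevCross K r h1 ⟨F, i1, i2, hr, Or.inr (Or.inr (Or.inl e))⟩
    · obtain ⟨F, i1, i2, e⟩ := h
      obtain ⟨r, ⟨hr⟩⟩ := exists_char F
      by_cases h1 : r = p
      · subst h1; exact hR.e7Own K ⟨F, i1, i2, hr, e⟩
      · exact hR.chevCross K r h1 ⟨F, i1, i2, hr, Or.inr (Or.inr (Or.inr (Or.inl e)))⟩
    · obtain ⟨F, i1, i2, e⟩ := h
      obtain ⟨r, ⟨hr⟩⟩ := exists_char F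
      by_cases h1 : r = p
      · subst h1; exact hR.e8Own K ⟨F, i1, i2, hr, e⟩
      · exact hR.chevCross K r h1 ⟨F, i1, i2, hr, Or.inr (Or.inr (Or.inr (Or.inr e)))⟩
    · obtain ⟨F, i1, i2, q, hq, hc, e⟩ := h
      obtain ⟨r, ⟨hr⟩⟩ := exists_char F
      by_cases h1 : r = p
      · subst h1; exact hR.twE6Own K ⟨F, i1, i2, hr, q, hq, hc, e⟩
      · exact hR.twCross K r h1 ⟨F, i1, i2, hr, q, hq, Or.inl ⟨hc, e⟩⟩
    · obtain ⟨F, i1, i2, q, hq, hc, e⟩ := h
      obtain ⟨r, ⟨hr⟩⟩ := exists_char F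
      by_cases h1 : r = p
      · subst h1; exact hR.twD4Own K ⟨F, i1, i2, hr, q, hq, hc, e⟩
      · exact hR.twCross K r h1 ⟨F, i1, i2, hr, q, hq, Or.inr ⟨hc, e⟩⟩
    · exact hR.sz K h
    · exact hR.ree K h
    · exact hR.twF4 K h
    · exact hR.tits K h
  · exact hR.spor K h hIH

/-- all simple groups -/
theorem RowsI.all {p : ℕ} (hp : p.Prime) (hR : RowsI.{w} p)
    (hcl : ∀ (K : Type w) [Group K] [Finite K] [IsSimpleGroup K], IsKnownSimple' K) :
    ∀ (n : ℕ) (K : Type w) [Group K] [Finite K] [IsSimpleGroup K], Nat.card K = n →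
      (¬ ∀ x y : K, x * y = y * x) → Row p K := by
  intro n
  induction n using Nat.strong_induction_on with
  | _ n ih =>
    intro K _ _ _ hn hna
    refine hR.step hp K hna (hcl K) ?_
    intro L _ _ _ hL hnaL
    exact ih (Nat.card L) (by omega) L rfl hnaL

theorem mainI {G : Type w} [Group G] [Finite G]
    (p : ℕ) (hp : p.Prime) (hp5 : 5 ≤ p) (hR : RowsI.{w} p)
    (hcl : ∀ (K : Type w) [Group K] [Finite K] [IsSimpleGroup K], IsKnownSimple' K)
    (hS : ∀ M : Subgroup G, M.Normal → Group.IsSolvable ↥M → M = ⊥)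
    (A₀ : Subgroup G) (hA₀ : Nat.card ↥A₀ = p)
    (hgen : (⨆ g : G, A₀.map (MulAut.conj g).toMonoidHom) = ⊤)
    (hpair : ∀ g h : G, A₀.map (MulAut.conj g).toMonoidHom ≠ A₀.map (MulAut.conj h).toMonoidHom →
      Nonempty (↥(A₀.map (MulAut.conj g).toMonoidHom ⊔ A₀.map (MulAut.conj h).toMonoidHom) ≃*
        (Multiplicative (ZMod p) × Multiplicative (ZMod p))) ∨
      ∃ (K : Type) (_ : Field K) (_ : Fintype K) (m : ℕ), 1 ≤ m ∧ Fintype.card K = p ^ m ∧
        (Nonempty (↥(A₀.map (MulAut.conj g).toMonoidHom ⊔ A₀.map (MulAut.conj h).toMonoidHom) ≃*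
            Matrix.ProjectiveSpecialLinearGroup (Fin 2) K) ∨
          Nonempty (↥(A₀.map (MulAut.conj g).toMonoidHom ⊔ A₀.map (MulAut.conj h).toMonoidHom) ≃*
            Matrix.SpecialLinearGroup (Fin 2) K))) : Target p G := by
  have h := Pr.of_hpair hp hA₀ hpair
  obtain ⟨hs, hna⟩ := reduction hp hp5 hS h hgen
  exact hR.all hp hcl _ G rfl hna A₀ h

end Cfsg.Agent.H103.Tor
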