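import Cfsg.Agent.H103.Tor.SLTwo

/-!
# S3235: the tools F0-F4 (helper103)

`p ≥ 5` prime, `h : Pr p A`.
* `Pr.comm_of_norm` (F2): `A` normalises `N`, `A ≰ N` ⇒ `A` commutes with `A^n`, `n ∈ N`;
* `Pr.centralize` : `A` normalises `N`, `A ≰ N`, `O_p(N) = 1` ⇒ `A` centralises `N`;
* `Pr.centralize_of_not_dvd` (F1): `A` centralises every `A`-invariant `p'`-subgroup;
* `Pr.centralize_perfect` : `N` perfect with `O_p(N) ≤ Z(N)`;
* `Pr.comm_of_solvable` (F0): `A ≤ H` solvable ⇒ `A` commutes with all `H`-conjugates;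
* `Pr.exists_noncomm` : `O_p(G) = 1` ⇒ some conjugate does not commute;
* `Pr.exists_sq` (F3): some `t` with `t a t⁻¹ = a ^ (s²)`;
* `Pr.count` (F4): `|G| ≤ |C(A)|² (1 + |C(t)|)` with `t a t⁻¹ = a ^ 4`.
-/

set_option autoImplicit false

namespace Cfsg.Agent.H103.Tor

open Subgroup
open scoped commutatorElement

variable {G : Type*} [Group G]

/-- the subgroup generated by the conjugates of `A` under `H` -/
def ncl (A H : Subgroup G) : Subgroup G := ⨆ h : H, cj (h : G) A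

theorem cj_le_ncl (A H : Subgroup G) {h : G} (hh : h ∈ H) : cj h A ≤ ncl A H :=
  le_iSup (fun h : H => cj (h : G) A) ⟨h, hh⟩

theorem le_ncl (A H : Subgroup G) : A ≤ ncl A H := by
  have := cj_le_ncl A H H.one_mem
  rwa [cj_one] at this

theorem ncl_le {A H K : Subgroup G} (hK : ∀ h ∈ H, cj h A ≤ K) : ncl A H ≤ K :=
  iSup_le fun h => hK h h.2

theorem cj_ncl {A H : Subgroup G} {h : G} (hh : h ∈ H) : cj h (ncl A H) ≤ ncl A H := by
  unfold ncl
  show Subgroup.map (MulAut.conj h).toMonoidHom (⨆ h : H, cj (h : G) A) ≤ _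
  rw [Subgroup.map_iSup]
  apply iSup_le
  intro k
  have := cj_cj h (k : G) A
  show cj h (cj (k : G) A) ≤ _
  rw [this]
  exact cj_le_ncl A H (H.mul_mem hh k.2)

theorem conj_mem_ncl {A H : Subgroup G} {h x : G} (hh : h ∈ H) (hx : x ∈ ncl A H) : h * x * h⁻¹ ∈ ncl A H :=
  cj_ncl hh ⟨x, hx, rfl⟩

/-- if `A` commutes with all its `H`-conjugates then the closure is commutative -/
theorem ncl_comm {A H : Subgroup G} (hc : ∀ h ∈ H, Cm A (cj h A)) : ∀ x ∈ ncl A H, ∀ y ∈ ncl A H, x * y = y * x := by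
  have h1 : ∀ h k : H, Cm (cj (h : G) A) (cj (k : G) A) := by
    intro h k
    have h2 := (hc ((h : G)⁻¹ * k) (H.mul_mem (H.inv_mem h.2) k.2)).cj (h : G)
    rwa [cj_cj, show (h : G) * ((h : G)⁻¹ * k) = k by group] at h2
  have h2 : ncl A H ≤ centralizer (ncl A H : Set G) := by
    apply iSup_le
    intro h
    rw [← Subgroup.le_centralizer_iff]
    apply iSup_le
    intro k x hx
    rw [mem_centralizer_iff]
    intro y hy
    exact h1 h k y hy x hx
  intro x hx y hy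
  exact mem_centralizer_iff.1 (h2 hy) x hx

theorem ncl_pow {p : ℕ} {A H : Subgroup G} (hA : Nat.card A = p) (hc : ∀ h ∈ H, Cm A (cj h A)) :
    ∀ x ∈ ncl A H, x ^ p = 1 := by
  intro x hx
  induction hx using Subgroup.iSup_induction' with
  | hp i x hx =>
    obtain ⟨a, ha, rfl⟩ := hx
    have h1 : a ^ p = 1 := by
      have := pow_card_eq_one' (x := (⟨a, ha⟩ : A))
      rw [hA] at this
      exact congrArg Subtype.val this
    rw [← map_pow, h1, map_one]
  | h1 => exact one_pow _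
  | hmul x y hx hy ihx ihy =>
    have h2 : Commute x y := ncl_comm hc x hx y hy
    rw [h2.mul_pow, ihx, ihy, one_mul]

theorem ncl_pGroup {p : ℕ} {A H : Subgroup G} (hA : Nat.card A = p) (hc : ∀ h ∈ H, Cm A (cj h A)) :
    IsPGroup p (ncl A H) := by
  intro x
  refine ⟨1, ?_⟩
  rw [pow_one]
  exact Subtype.ext (ncl_pow hA hc x x.2)

variable {p : ℕ} (hp : p.Prime) (hp5 : 5 ≤ p)

include hp hp5

/-- (F2) -/
theorem Pr.comm_of_norm {A N : Subgroup G} (h : Pr p A) (hn : ∀ a ∈ A, ∀ n ∈ N, a * n * a⁻¹ ∈ N) (hA : ¬ A ≤ N)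
    {n : G} (hnN : n ∈ N) : Cm A (cj n A) := by
  by_contra hc
  have hP := h.exists_pair hp hp5 hc
  have h1 := hP.perfect hp hp5
  -- `A ⊔ cj n A ≤ A ⊔ N`, whose commutator subgroup is contained in `N`
  have hAn : A ≤ normalizer (N : Set G) := by
    intro a ha
    rw [mem_normalizer_iff]
    intro x
    constructor
    · intro hx; exact hn a ha x hx
    · intro hx
      have := hn a⁻¹ (A.inv_mem ha) _ hx
      have e : a⁻¹ * (a * x * a⁻¹) * a⁻¹⁻¹ = x := by group
      rwa [e] at this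
  have h2 : cj n A ≤ A ⊔ N := by
    rintro _ ⟨a, ha, rfl⟩
    exact (A ⊔ N).mul_mem ((A ⊔ N).mul_mem (mem_sup_right hnN) (mem_sup_left ha))
      (mem_sup_right (N.inv_mem hnN))
  have h3 : ⁅A ⊔ N, A ⊔ N⁆ ≤ N := by
    have hAN : A ⊔ N ≤ normalizer (N : Set G) := sup_le hAn le_normalizer
    -- work in the normaliser modulo `N`
    rw [Subgroup.commutator_le]
    intro x hx y hy
    have hmem : ∀ z ∈ A ⊔ N, ∃ a ∈ A, ∃ m ∈ N, z = a * m := by
      intro z hz
      have : z ∈ (↑(A ⊔ N) : Set G) := hz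
      rw [Subgroup.coe_mul_of_left_le_normalizer_right A N hAn, Set.mem_mul] at this
      obtain ⟨a, ha, m, hm, e⟩ := this
      exact ⟨a, ha, m, hm, e.symm⟩
    obtain ⟨a, ha, m, hm, rfl⟩ := hmem x hx
    obtain ⟨b, hb, k, hk, rfl⟩ := hmem y hy
    have hab : a * b = b * a := Cm.self hp h.card a ha b hb
    rw [commutatorElement_def]
    have e : a * m * (b * k) * (a * m)⁻¹ * (b * k)⁻¹ =
        (a * b) * ((b⁻¹ * m * b) * k) * (b * a)⁻¹ * (b * (a * m⁻¹ * a⁻¹) * b⁻¹) * (b * k⁻¹ * b⁻¹) := by group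
    rw [e, hab]
    have hn' : ∀ c ∈ A, ∀ z ∈ N, c⁻¹ * z * c ∈ N := by
      intro c hc z hz
      have := hn c⁻¹ (A.inv_mem hc) z hz
      rwa [inv_inv] at this
    refine N.mul_mem (N.mul_mem ?_ ?_) ?_
    · exact hn (b * a) (A.mul_mem hb ha) _ (N.mul_mem (hn' b hb m hm) hk)
    · exact hn b hb _ (hn a ha _ (N.inv_mem hm))
    · exact hn b hb _ (N.inv_mem hk)
  apply hA
  have h4 : A ⊔ cj n A ≤ A ⊔ N := sup_le le_sup_left h2
  calc A ≤ A ⊔ cj n A := le_sup_left
    _ = ⁅A ⊔ cj n A, A ⊔ cj n A⁆ := h1.symm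
    _ ≤ ⁅A ⊔ N, A ⊔ N⁆ := Subgroup.commutator_mono h4 h4
    _ ≤ N := h3

/-- commutators `[a, n]` lie in a normal abelian `p`-subgroup of `N` -/
theorem Pr.exists_normal {A N : Subgroup G} (h : Pr p A) (hn : ∀ a ∈ A, ∀ n ∈ N, a * n * a⁻¹ ∈ N)
    (hA : ¬ A ≤ N) : ∃ P : Subgroup G, P ≤ N ∧ IsPGroup p P ∧ (∀ x ∈ P, ∀ y ∈ P, x * y = y * x) ∧
      (∀ n ∈ N, ∀ x ∈ P, n * x * n⁻¹ ∈ P) ∧ (∀ a ∈ A, ∀ x ∈ P, a * x * a⁻¹ = x) ∧
      ∀ a ∈ A, ∀ n ∈ N, a * n * a⁻¹ * n⁻¹ ∈ P := by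
  have hc : ∀ n ∈ N, Cm A (cj n A) := fun n hnN => h.comm_of_norm hp hp5 hn hA hnN
  refine ⟨ncl A N ⊓ N, inf_le_right, ?_, ?_, ?_, ?_, ?_⟩
  · exact (ncl_pGroup h.card hc).to_le inf_le_left
  · intro x hx y hy
    exact ncl_comm hc x hx.1 y hy.1
  · intro n hnN x hx
    exact ⟨conj_mem_ncl hnN hx.1, N.mul_mem (N.mul_mem hnN hx.2) (N.inv_mem hnN)⟩
  · intro a ha x hx
    have := ncl_comm hc a (le_ncl A N ha) x hx.1
    rw [this]; group
  · intro a ha n hnN
    refine ⟨?_, N.mul_mem (hn a ha n hnN) (N.inv_mem hnN)⟩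
    have e : a * n * a⁻¹ * n⁻¹ = a * (n * a⁻¹ * n⁻¹) := by group
    rw [e]
    exact (ncl A N).mul_mem (le_ncl A N ha) (cj_le_ncl A N hnN ⟨a⁻¹, A.inv_mem ha, rfl⟩)

/-- `A` centralises `N` if `O_p(N) = 1` -/
theorem Pr.centralize {A N : Subgroup G} (h : Pr p A) (hn : ∀ a ∈ A, ∀ n ∈ N, a * n * a⁻¹ ∈ N)
    (hA : ¬ A ≤ N) (hO : ∀ P : Subgroup G, P ≤ N → IsPGroup p P → (∀ n ∈ N, ∀ x ∈ P, n * x * n⁻¹ ∈ P) → P = ⊥) :
    Cm A N := by
  obtain ⟨P, hPN, hP, -, hPn, -, hc⟩ := h.exists_normal hp hp5 hn hA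
  have h1 := hO P hPN hP hPn
  intro a ha n hnN
  have h2 := hc a ha n hnN
  rw [h1, mem_bot, mul_inv_eq_one, mul_inv_eq_iff_eq_mul] at h2
  exact h2

/-- (F1) `A` centralises every invariant `p'`-subgroup -/
theorem Pr.centralize_of_not_dvd {A N : Subgroup G} [Finite N] (h : Pr p A)
    (hn : ∀ a ∈ A, ∀ n ∈ N, a * n * a⁻¹ ∈ N) (hN : ¬ p ∣ Nat.card N) : Cm A N := by
  have hpf := Fact.mk hp
  apply h.centralize hp hp5 hn
  · intro hA
    exact hN (h.card ▸ Subgroup.card_dvd_of_le hA)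
  · intro P hPN hP _
    have : Finite P := Finite.of_injective _ (Subgroup.inclusion_injective hPN)
    obtain ⟨k, hk⟩ := (IsPGroup.iff_card.1 hP)
    rcases Nat.eq_zero_or_pos k with h0 | h0
    · rw [h0, pow_zero] at hk
      exact Subgroup.card_eq_one.1 hk
    · exfalso
      apply hN
      calc p ∣ p ^ k := dvd_pow_self p h0.ne'
        _ = Nat.card P := hk.symm
        _ ∣ Nat.card N := Subgroup.card_dvd_of_le hPN

/-- `A` centralises a perfect group `N` if `O_p(N) ≤ Z(N)` -/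
theorem Pr.centralize_perfect {A N : Subgroup G} (h : Pr p A) (hn : ∀ a ∈ A, ∀ n ∈ N, a * n * a⁻¹ ∈ N)
    (hA : ¬ A ≤ N) (hperf : ⁅N, N⁆ = N)
    (hO : ∀ P : Subgroup G, P ≤ N → IsPGroup p P → (∀ n ∈ N, ∀ x ∈ P, n * x * n⁻¹ ∈ P) → Cm P N) :
    Cm A N := by
  obtain ⟨P, hPN, hP, -, hPn, hAP, hc⟩ := h.exists_normal hp hp5 hn hA
  have hPN' := hO P hPN hP hPn
  have key : ⁅N, N⁆ ≤ centralizer (A : Set G) := by
    rw [Subgroup.commutator_le]
    intro x hx y hy
    rw [mem_centralizer_iff]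
    intro a ha
    -- `a x a⁻¹ = z x`, `a y a⁻¹ = w y`, `z, w` central in `N`
    obtain ⟨z, hz, hzx⟩ : ∃ z ∈ P, a * x * a⁻¹ = z * x := ⟨_, hc a ha x hx, by group⟩
    obtain ⟨w, hw, hwy⟩ : ∃ w ∈ P, a * y * a⁻¹ = w * y := ⟨_, hc a ha y hy, by group⟩
    have e1 : a * ⁅x, y⁆ * a⁻¹ = ⁅a * x * a⁻¹, a * y * a⁻¹⁆ := by
      rw [commutatorElement_def, commutatorElement_def]; group
    have e2 : ⁅z * x, w * y⁆ = ⁅x, y⁆ := by
      have hzx : z * x = x * z := hPN' z hz x hx
      have hzy : z * y = y * z := hPN' z hz y hy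
      have hwx : w * x = x * w := hPN' w hw x hx
      have hwy : w * y = y * w := hPN' w hw y hy
      have hzw : z * w = w * z := hPN' z hz w (hPN hw)
      rw [commutatorElement_def, commutatorElement_def]
      have e3 : z * x * (w * y) = (x * y) * (z * w) := by
        calc z * x * (w * y) = (z * x) * w * y := by group
          _ = x * z * w * y := by rw [hzx]
          _ = x * (z * w * y) := by group
          _ = x * (z * (w * y)) := by group
          _ = x * (z * (y * w)) := by rw [hwy]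
          _ = x * ((z * y) * w) := by group
          _ = x * ((y * z) * w) := by rw [hzy]
          _ = _ := by group
      have e4 : w * y * (z * x) = (y * x) * (z * w) := by
        calc w * y * (z * x) = (w * y) * z * x := by group
          _ = (y * w) * z * x := by rw [hwy]
          _ = y * (w * z) * x := by group
          _ = y * (z * w) * x := by rw [hzw]
          _ = y * (z * (w * x)) := by group
          _ = y * (z * (x * w)) := by rw [hwx]
          _ = y * ((z * x) * w) := by group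
          _ = y * ((x * z) * w) := by rw [hzx]
          _ = _ := by group
      calc z * x * (w * y) * (z * x)⁻¹ * (w * y)⁻¹ = z * x * (w * y) * (w * y * (z * x))⁻¹ := by group
        _ = (x * y) * (z * w) * ((y * x) * (z * w))⁻¹ := by rw [e3, e4]
        _ = x * y * x⁻¹ * y⁻¹ := by group
    rw [hzx, hwy, e2, mul_inv_eq_iff_eq_mul] at e1
    exact e1
  rw [hperf] at key
  intro a ha n hnN
  exact mem_centralizer_iff.1 (key hnN) a ha

/-- (F0) in a solvable subgroup `A` commutes with its conjugates -/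
theorem Pr.comm_of_solvable {A H : Subgroup G} (h : Pr p A) (hA : A ≤ H) (hs : Group.IsSolvable H) {x : G}
    (hx : x ∈ H) : Cm A (cj x A) := by
  by_contra hc
  have hP := h.exists_pair hp hp5 hc
  exact hP.not_solvable hp hp5 h.card (sup_le hA (cj_le_of_mem hA hx)) hs

/-- some conjugate of `A` does not commute with `A`, if `O_p(G) = 1` -/
theorem Pr.exists_noncomm {A : Subgroup G} (h : Pr p A)
    (hO : ∀ P : Subgroup G, P.Normal → IsPGroup p P → P = ⊥) : ∃ g : G, ¬ Cm A (cj g A) := by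
  by_contra hc
  push Not at hc
  have h1 : ncl A ⊤ = ⊥ := by
    apply hO
    · constructor
      intro x hx g
      exact conj_mem_ncl (mem_top g) hx
    · exact ncl_pGroup h.card fun g _ => hc g
  have h2 : A = ⊥ := by rw [eq_bot_iff, ← h1]; exact le_ncl A ⊤
  have h3 := h.card
  rw [h2, Subgroup.card_bot] at h3
  exact hp.one_lt.ne h3

/-- for a nonabelian simple group -/
theorem Pr.exists_noncomm_simple [Finite G] [IsSimpleGroup G] {A : Subgroup G} (h : Pr p A)
    (hna : ¬ ∀ x y : G, x * y = y * x) : ∃ g : G, ¬ Cm A (cj g A) := by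
  have hpf := Fact.mk hp
  apply h.exists_noncomm hp hp5
  intro P hPn hP
  rcases hPn.eq_bot_or_eq_top with h1 | h1
  · exact h1
  · exfalso
    apply hna
    have h2 : IsPGroup p G := by
      rw [h1] at hP
      exact hP.of_surjective (⊤ : Subgroup G).subtype (fun g => ⟨⟨g, mem_top g⟩, rfl⟩)
    have : Nontrivial G := inferInstance
    have h3 := h2.center_nontrivial
    have h4 : center G = ⊤ := by
      rcases (inferInstance : (center G).Normal).eq_bot_or_eq_top with h5 | h5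
      · rw [h5] at h3
        exact absurd h3 (not_nontrivial _)
      · exact h5
    intro x y
    have : y ∈ center G := by rw [h4]; trivial
    exact (mem_center_iff.1 this x)

/-- (F3) -/
theorem Pr.exists_sq {A : Subgroup G} (h : Pr p A) {g : G} (hg : ¬ Cm A (cj g A)) (s : ℕ) (hs : ¬ p ∣ s) :
    ∃ t : G, ∀ a ∈ A, t * a * t⁻¹ = a ^ (s ^ 2) := by
  obtain ⟨t, -, ht, -⟩ := (h.exists_pair hp hp5 hg).exists_sq hp hp5 s hs
  exact ⟨t, ht⟩

/-- (F4) counting -/
theorem Pr.count [Finite G] {A : Subgroup G} (h : Pr p A) {g₀ : G} (hg₀ : ¬ Cm A (cj g₀ A)) :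
    ∃ t : G, (∀ a ∈ A, t * a * t⁻¹ = a ^ 4) ∧ t ^ (p - 1) = 1 ∧ (∃ w : G, w * t * w⁻¹ = t⁻¹) ∧
      Nat.card G ≤ Nat.card (centralizer (A : Set G)) ^ 2 * (1 + Nat.card (centralizer ({t} : Set G))) := by
  classical
  have : Fintype G := Fintype.ofFinite G
  -- the torus elements
  have hex : ∀ g : G, ∃ t : G, ¬ Cm A (cj g A) → (∀ a ∈ A, t * a * t⁻¹ = a ^ 4) ∧
      (∀ b ∈ cj g A, t⁻¹ * b * t = b ^ 4) ∧ t ^ (p - 1) = 1 ∧ ∃ w : G, w * t * w⁻¹ = t⁻¹ := by
    intro g
    by_cases hg : Cm A (cj g A)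
    · exact ⟨1, fun hc => absurd hg hc⟩
    · obtain ⟨t, -, h1, h2, h3, w, -, h4⟩ := (h.exists_pair hp hp5 hg).exists_sq hp hp5 2
        (fun hd => by have := Nat.le_of_dvd (by norm_num) hd; omega)
      exact ⟨t, fun _ => ⟨h1, h2, h3, w, h4⟩⟩
  choose τ hτ using hex
  set C := centralizer (A : Set G) with hC
  set S : Finset G := Finset.univ.filter (fun g => ¬ Cm A (cj g A)) with hS
  have hSne : S.Nonempty := ⟨g₀, by rw [hS, Finset.mem_filter]; exact ⟨Finset.mem_univ _, hg₀⟩⟩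
  obtain ⟨g₁, hg₁, hmax⟩ := S.exists_max_image (fun g => Nat.card (centralizer ({τ g} : Set G))) hSne
  have hg₁' : ¬ Cm A (cj g₁ A) := (Finset.mem_filter.1 hg₁).2
  obtain ⟨hA1, -, h3, h4⟩ := hτ g₁ hg₁'
  set M := Nat.card (centralizer ({τ g₁} : Set G)) with hM
  refine ⟨τ g₁, hA1, h3, h4, ?_⟩
  set CF : Finset G := Finset.univ.filter (fun g => g ∈ C) with hCF
  have hCFc : CF.card = Nat.card C := by
    rw [hCF, Nat.card_eq_fintype_card, ← Fintype.card_subtype]
  -- same action on `A` implies same coset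
  have hcos : ∀ x : G, (∀ a ∈ A, x * a * x⁻¹ = a ^ 4) → (τ g₁)⁻¹ * x ∈ C := by
    intro x hx
    rw [hC, mem_centralizer_iff]
    intro a ha
    have e1 : x * a * x⁻¹ = τ g₁ * a * (τ g₁)⁻¹ := by rw [hx a ha, hA1 a ha]
    have e2 : x * a = τ g₁ * a * (τ g₁)⁻¹ * x := by rw [← e1]; group
    calc a * ((τ g₁)⁻¹ * x) = (τ g₁)⁻¹ * (τ g₁ * a * (τ g₁)⁻¹ * x) := by group
      _ = (τ g₁)⁻¹ * (x * a) := by rw [e2]
      _ = (τ g₁)⁻¹ * x * a := by group
  have hScard : S.card ≤ M * Nat.card C ^ 2 := by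
    have h5 := Finset.card_le_mul_card_image (f := fun g => ((τ g₁)⁻¹ * τ g, (τ g₁)⁻¹ * (g⁻¹ * (τ g)⁻¹ * g))) S M ?_
    · refine le_trans h5 (Nat.mul_le_mul_left _ ?_)
      have h6 : S.image (fun g => ((τ g₁)⁻¹ * τ g, (τ g₁)⁻¹ * (g⁻¹ * (τ g)⁻¹ * g))) ⊆ CF ×ˢ CF := by
        intro x hx
        rw [Finset.mem_image] at hx
        obtain ⟨g, hg, rfl⟩ := hx
        obtain ⟨k1, k2, -, -⟩ := hτ g (Finset.mem_filter.1 hg).2
        rw [Finset.mem_product, hCF, Finset.mem_filter, Finset.mem_filter]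
        refine ⟨⟨Finset.mem_univ _, hcos _ k1⟩, ⟨Finset.mem_univ _, hcos _ ?_⟩⟩
        intro a ha
        have e3 := k2 _ (conj_mem_cj (g := g) ha)
        have e4 : g⁻¹ * (τ g)⁻¹ * g * a * (g⁻¹ * (τ g)⁻¹ * g)⁻¹ = g⁻¹ * ((τ g)⁻¹ * (g * a * g⁻¹) * τ g) * g := by group
        rw [e4, e3, conj_pow]
        group
      calc (S.image _).card ≤ (CF ×ˢ CF).card := Finset.card_le_card h6
        _ = Nat.card C ^ 2 := by rw [Finset.card_product, hCFc, sq]
    · intro x hx
      rw [Finset.mem_image] at hx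
      obtain ⟨g, hg, rfl⟩ := hx
      have h7 : ({y ∈ S | ((τ g₁)⁻¹ * τ y, (τ g₁)⁻¹ * (y⁻¹ * (τ y)⁻¹ * y)) =
          ((τ g₁)⁻¹ * τ g, (τ g₁)⁻¹ * (g⁻¹ * (τ g)⁻¹ * g))} : Finset G).card ≤
          (Finset.univ.filter (fun z => z ∈ centralizer ({τ g} : Set G))).card := by
        apply Finset.card_le_card_of_injOn (fun y => y * g⁻¹)
        · intro y hy
          simp only [Finset.coe_filter, Set.mem_ofPred_eq, Prod.mk.injEq, mul_right_inj] at hy
          obtain ⟨-, hy1, hy2⟩ := hy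
          simp only [Finset.coe_filter, Set.mem_ofPred_eq, Finset.mem_univ, true_and]
          rw [mem_centralizer_singleton_iff]
          rw [hy1] at hy2
          have e5 : y * g⁻¹ * (τ g)⁻¹ = (τ g)⁻¹ * (y * g⁻¹) := by
            calc y * g⁻¹ * (τ g)⁻¹ = y * (g⁻¹ * (τ g)⁻¹ * g) * g⁻¹ := by group
              _ = y * (y⁻¹ * (τ g)⁻¹ * y) * g⁻¹ := by rw [hy2]
              _ = _ := by group
          have e6 : τ g * (y * g⁻¹ * (τ g)⁻¹) * τ g = τ g * ((τ g)⁻¹ * (y * g⁻¹)) * τ g := by rw [e5]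
          have e7 : τ g * (y * g⁻¹) = (y * g⁻¹) * τ g := by
            calc τ g * (y * g⁻¹) = τ g * (y * g⁻¹ * (τ g)⁻¹) * τ g := by group
              _ = τ g * ((τ g)⁻¹ * (y * g⁻¹)) * τ g := e6
              _ = _ := by group
          first | exact e7 | exact e7.symm
        · intro y _ z _ hyz
          exact mul_right_cancel hyz
      refine le_trans h7 ?_
      have h8 := hmax g hg
      refine le_trans (le_of_eq ?_) h8
      rw [Nat.card_eq_fintype_card, ← Fintype.card_subtype]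
  -- the commuting conjugates
  obtain ⟨a₀, ha₀, -, hAa⟩ := Cfsg.Agent.H333.SLTwoLine.exists_gen hp A h.card
  have hTcard : (Finset.univ.filter (fun g => Cm A (cj g A))).card ≤ Nat.card C ^ 2 := by
    have h5 := Finset.card_le_mul_card_image (f := fun g => g * a₀ * g⁻¹)
      (Finset.univ.filter (fun g => Cm A (cj g A))) (Nat.card C) ?_
    · refine le_trans h5 ?_
      rw [sq]
      refine Nat.mul_le_mul_left _ ?_
      rw [← hCFc]
      apply Finset.card_le_card
      intro x hx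
      rw [Finset.mem_image] at hx
      obtain ⟨g, hg, rfl⟩ := hx
      rw [hCF, Finset.mem_filter]
      refine ⟨Finset.mem_univ _, ?_⟩
      rw [hC, mem_centralizer_iff]
      intro a ha
      exact (Finset.mem_filter.1 hg).2 a ha _ (conj_mem_cj ha₀)
    · intro x hx
      rw [Finset.mem_image] at hx
      obtain ⟨g, hg, rfl⟩ := hx
      rw [← hCFc]
      apply Finset.card_le_card_of_injOn (fun y => g⁻¹ * y)
      · intro y hy
        simp only [Finset.coe_filter, Set.mem_ofPred_eq, Finset.mem_univ, true_and] at hy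
        obtain ⟨-, hy⟩ := hy
        simp only [hCF, Finset.coe_filter, Set.mem_ofPred_eq, Finset.mem_univ, true_and]
        rw [hC, mem_centralizer_iff]
        intro a ha
        rw [SetLike.mem_coe, hAa] at ha
        obtain ⟨i, rfl⟩ := ha
        have e1 : Commute a₀ (g⁻¹ * y) := by
          show a₀ * (g⁻¹ * y) = (g⁻¹ * y) * a₀
          calc a₀ * (g⁻¹ * y) = g⁻¹ * (g * a₀ * g⁻¹) * y := by group
            _ = g⁻¹ * (y * a₀ * y⁻¹) * y := by rw [hy]
            _ = (g⁻¹ * y) * a₀ := by group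
        exact e1.zpow_left i
      · intro y _ z _ hyz
        exact mul_left_cancel hyz
  have htot : Nat.card G = (Finset.univ.filter (fun g => Cm A (cj g A))).card + S.card := by
    rw [Nat.card_eq_fintype_card, ← Finset.card_univ, hS]
    exact (Finset.card_filter_add_card_filter_not (s := Finset.univ) (fun g => Cm A (cj g A))).symm
  rw [htot]
  calc _ ≤ Nat.card C ^ 2 + M * Nat.card C ^ 2 := Nat.add_le_add hTcard hScard
    _ = _ := by ring

end Cfsg.Agent.H103.Tor
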