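import Mathlib
import Cfsg.Prelude.Def_Classical
import Cfsg.Agent.H333.SLTwoLine

/-!
# S3235: the property `Pr` and the target (helper103)

`p` is a prime `≥ 5`.
* `cj g A` : the conjugate `g A g⁻¹`; `Cm A B` : `A` and `B` commute elementwise;
* `SLT p X` : `X ≅ PSL₂(K)` or `SL₂(K)`, `|K| = p ^ m`, `1 ≤ m`;
* `Pr p A` : `|A| = p` and for every `g`, `A` and `g A g⁻¹` commute elementwise or generate an `SLT`;
* `Target p G` : the conclusion of S3235;
* `Row p K` : every `A ≤ K` with `Pr p A` gives `Target p K`.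
-/

set_option autoImplicit false

namespace Cfsg.Agent.H103.Tor

open Subgroup Matrix
open Cfsg.Agent.H333.SLTwoLine (Ker1 tw u l d)

universe v w

/-- the conjugate `g A g⁻¹` -/
abbrev cj {G : Type*} [Group G] (g : G) (A : Subgroup G) : Subgroup G := A.map (MulAut.conj g).toMonoidHom

/-- elementwise commuting -/
def Cm {G : Type*} [Group G] (A B : Subgroup G) : Prop := ∀ a ∈ A, ∀ b ∈ B, a * b = b * a

/-- `X ≅ PSL₂(p^m)` or `SL₂(p^m)` -/
def SLT (p : ℕ) (X : Type*) [Group X] : Prop :=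
  ∃ (K : Type) (_ : Field K) (_ : Fintype K) (m : ℕ), 1 ≤ m ∧ Fintype.card K = p ^ m ∧
    (Nonempty (X ≃* Matrix.ProjectiveSpecialLinearGroup (Fin 2) K) ∨
      Nonempty (X ≃* Matrix.SpecialLinearGroup (Fin 2) K))

/-- the hypothesis on the conjugates of `A` -/
structure Pr (p : ℕ) {G : Type*} [Group G] (A : Subgroup G) : Prop where
  card : Nat.card ↥A = p
  pair : ∀ g : G, Cm A (cj g A) ∨ SLT p ↥(A ⊔ cj g A)

/-- the conclusion of S3235 -/
def Target (p : ℕ) (G : Type*) [Group G] : Prop :=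
  ∃ (F : Type) (_ : Field F) (_ : Fintype F), ringChar F = p ∧
    ((∃ m : ℕ, 1 ≤ m ∧ Nonempty (G ≃* Cfsg.PSp m F)) ∨
      (∃ (n q : ℕ), 2 ≤ n ∧ Fintype.card F = q ^ 2 ∧ Nonempty (G ≃* Cfsg.PSU n F q)))

/-- a row: a simple group `K` -/
def Row (p : ℕ) (K : Type*) [Group K] : Prop := ∀ A : Subgroup K, Pr p A → Target p K

section Basic

variable {G : Type*} [Group G] {H : Type*} [Group H]

theorem mem_cj {A : Subgroup G} {g x : G} : x ∈ cj g A ↔ g⁻¹ * x * g ∈ A := by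
  constructor
  · rintro ⟨y, hy, rfl⟩
    have : g⁻¹ * ((MulAut.conj g).toMonoidHom y) * g = y := by
      simp [MulAut.conj_apply]; group
    rw [this]; exact hy
  · intro h
    refine ⟨_, h, ?_⟩
    simp [MulAut.conj_apply]; group

theorem conj_mem_cj {A : Subgroup G} {g x : G} (hx : x ∈ A) : g * x * g⁻¹ ∈ cj g A := ⟨x, hx, rfl⟩

theorem cj_cj (g h : G) (A : Subgroup G) : cj g (cj h A) = cj (g * h) A := by
  ext x
  rw [mem_cj, mem_cj, mem_cj]
  have : h⁻¹ * (g⁻¹ * x * g) * h = (g * h)⁻¹ * x * (g * h) := by group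
  rw [this]

theorem cj_one (A : Subgroup G) : cj 1 A = A := by
  ext x; rw [mem_cj]; simp

theorem card_cj (g : G) (A : Subgroup G) : Nat.card (cj g A) = Nat.card A :=
  (Nat.card_congr (A.equivMapOfInjective _ (MulAut.conj g).injective).toEquiv).symm

theorem cj_sup (g : G) (A B : Subgroup G) : cj g (A ⊔ B) = cj g A ⊔ cj g B := Subgroup.map_sup _ _ _

theorem cj_mono (g : G) {A B : Subgroup G} (h : A ≤ B) : cj g A ≤ cj g B := Subgroup.map_mono h

theorem map_cj (f : G →* H) (g : G) (A : Subgroup G) : (cj g A).map f = cj (f g) (A.map f) := by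
  ext x
  constructor
  · rintro ⟨y, ⟨z, hz, rfl⟩, rfl⟩
    refine ⟨f z, ⟨z, hz, rfl⟩, ?_⟩
    simp [MulAut.conj_apply]
  · rintro ⟨y, ⟨z, hz, rfl⟩, rfl⟩
    refine ⟨g * z * g⁻¹, ⟨z, hz, rfl⟩, ?_⟩
    simp [MulAut.conj_apply]

theorem cj_le_of_mem {A H : Subgroup G} (hA : A ≤ H) {g : G} (hg : g ∈ H) : cj g A ≤ H := by
  rintro _ ⟨x, hx, rfl⟩
  exact H.mul_mem (H.mul_mem hg (hA hx)) (H.inv_mem hg)

theorem Cm.symm {A B : Subgroup G} (h : Cm A B) : Cm B A := fun b hb a ha => (h a ha b hb).symm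

theorem Cm.map {A B : Subgroup G} (h : Cm A B) (f : G →* H) : Cm (A.map f) (B.map f) := by
  rintro _ ⟨a, ha, rfl⟩ _ ⟨b, hb, rfl⟩
  rw [← map_mul, h a ha b hb, map_mul]

theorem Cm.of_map {A B : Subgroup G} {f : G →* H} (hf : Function.Injective f) (h : Cm (A.map f) (B.map f)) :
    Cm A B := by
  intro a ha b hb
  apply hf
  rw [map_mul, map_mul]
  exact h _ ⟨a, ha, rfl⟩ _ ⟨b, hb, rfl⟩

theorem SLT.congr {p : ℕ} {X : Type*} [Group X] {Y : Type*} [Group Y] (e : X ≃* Y) (h : SLT p X) : SLT p Y := by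
  obtain ⟨K, i1, i2, m, hm, hK, h⟩ := h
  refine ⟨K, i1, i2, m, hm, hK, ?_⟩
  rcases h with ⟨⟨f⟩⟩ | ⟨⟨f⟩⟩
  · exact Or.inl ⟨e.symm.trans f⟩
  · exact Or.inr ⟨e.symm.trans f⟩

theorem SLT.of_eq {p : ℕ} {A B : Subgroup G} (hAB : A = B) (h : SLT p A) : SLT p B := by
  subst hAB; exact h

theorem Target.congr {p : ℕ} (e : G ≃* H) (h : Target p G) : Target p H := by
  obtain ⟨F, i1, i2, hF, h⟩ := h
  refine ⟨F, i1, i2, hF, ?_⟩
  rcases h with ⟨m, hm, ⟨f⟩⟩ | ⟨n, q, hn, hq, ⟨f⟩⟩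
  · exact Or.inl ⟨m, hm, ⟨e.symm.trans f⟩⟩
  · exact Or.inr ⟨n, q, hn, hq, ⟨e.symm.trans f⟩⟩

/-- `Pr` is inherited by subgroups: `B.map f` has `Pr` in the big group, so `B` has it in the small one -/
theorem Pr.of_injective {p : ℕ} {f : H →* G} (hf : Function.Injective f) {B : Subgroup H} (h : Pr p (B.map f)) :
    Pr p B := by
  refine ⟨?_, fun g => ?_⟩
  · rw [← h.card]
    exact Nat.card_congr (B.equivMapOfInjective f hf).toEquiv
  · rcases h.pair (f g) with h1 | h1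
    · left
      rw [← map_cj] at h1
      exact h1.of_map hf
    · right
      rw [← map_cj, ← Subgroup.map_sup] at h1
      exact h1.congr ((B ⊔ cj g B).equivMapOfInjective f hf).symm

/-- restriction to a subgroup `H` containing `A` -/
theorem Pr.subgroupOf {p : ℕ} {A : Subgroup G} (h : Pr p A) {H : Subgroup G} (hA : A ≤ H) :
    Pr p (A.subgroupOf H) := by
  apply Pr.of_injective (f := H.subtype) H.subtype_injective
  rwa [Subgroup.subgroupOf_map_subtype, inf_eq_left.2 hA]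

theorem Pr.map_equiv {p : ℕ} (e : G ≃* H) {A : Subgroup G} (h : Pr p A) : Pr p (A.map e.toMonoidHom) := by
  apply Pr.of_injective (f := e.symm.toMonoidHom) e.symm.injective
  rw [Subgroup.map_map]
  have : (e.symm.toMonoidHom.comp e.toMonoidHom) = MonoidHom.id G := by ext x; simp
  rw [this, Subgroup.map_id]
  exact h

theorem Pr.conj {p : ℕ} {A : Subgroup G} (h : Pr p A) (g : G) : Pr p (cj g A) :=
  h.map_equiv (MulAut.conj g)

theorem Pr.of_cj {p : ℕ} {A : Subgroup G} {g : G} (h : Pr p (cj g A)) : Pr p A := by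
  have := h.conj g⁻¹
  rwa [cj_cj, inv_mul_cancel, cj_one] at this

theorem Row.congr {p : ℕ} (e : G ≃* H) (h : Row p G) : Row p H := by
  intro A hA
  have h1 := h _ (hA.map_equiv e.symm)
  exact h1.congr e

theorem Cm.cj {A B : Subgroup G} (h : Cm A B) (g : G) : Cm (Tor.cj g A) (Tor.cj g B) := h.map _

theorem Cm.of_cj {A B : Subgroup G} {g : G} (h : Cm (Tor.cj g A) (Tor.cj g B)) : Cm A B :=
  h.of_map (MulAut.conj g).injective

theorem Cm.mono {A B A' B' : Subgroup G} (h : Cm A B) (hA : A' ≤ A) (hB : B' ≤ B) : Cm A' B' :=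
  fun a ha b hb => h a (hA ha) b (hB hb)

/-- two arbitrary conjugates -/
theorem Pr.pair' {p : ℕ} {A : Subgroup G} (h : Pr p A) (g k : G) :
    Cm (cj g A) (cj k A) ∨ SLT p ↥(cj g A ⊔ cj k A) := by
  have h1 : k = g * (g⁻¹ * k) := by group
  rcases h.pair (g⁻¹ * k) with h2 | h2
  · left
    rw [h1, ← cj_cj]
    exact h2.cj g
  · right
    rw [h1, ← cj_cj, ← cj_sup]
    exact h2.congr ((A ⊔ cj (g⁻¹ * k) A).equivMapOfInjective _ (MulAut.conj g).injective)

/-- `A` commutes with itself -/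
theorem Cm.self {p : ℕ} (hp : p.Prime) {A : Subgroup G} (hA : Nat.card A = p) : Cm A A := by
  have := Fact.mk hp
  have hc : IsCyclic A := isCyclic_of_prime_card hA
  intro a ha b hb
  have := hc.commGroup.mul_comm ⟨a, ha⟩ ⟨b, hb⟩
  exact congrArg Subtype.val this

end Basic

end Cfsg.Agent.H103.Tor
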