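import Cfsg.Agent.H103.Tor.Asm2
import Cfsg.Agent.H103.Tor.PSLTwoRow
import Cfsg.Agent.H103.Tor.PSLCrossRow
import Cfsg.Agent.H451.Tor.Rows
import Cfsg.Agent.H451.Tor.HexRows
import Cfsg.Agent.H451.Tor.EdgeRows
import Cfsg.Agent.H451.Tor.PSpCross
import Cfsg.Agent.H724.TorOrth
import Cfsg.Agent.H733.Tor.Rows
import Cfsg.Agent.H880.TorI

/-!
# S3235: all rows except the alternating groups, the Tits group and the sporadic groups (helper103)
-/

set_option autoImplicit false

namespace Cfsg.Agent.H103.Tor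

open Subgroup Cfsg

universe w

/-- the rows, given the alternating groups, the Tits group and the sporadic groups -/
theorem rowsI_of {p : ℕ} (hp : p.Prime) (hp5 : 5 ≤ p)
    (alt : ∀ (K : Type w) [Group K] [Finite K] [IsSimpleGroup K], IsAlternating K → Row p K)
    (tits : ∀ (K : Type w) [Group K] [Finite K] [IsSimpleGroup K], Lie.IsoTits K → Row p K)
    (spor : ∀ (K : Type w) [Group K] [Finite K] [IsSimpleGroup K], IsSporadicGroup K →
      (∀ (L : Type w) [Group L] [Finite L] [IsSimpleGroup L], Nat.card L < Nat.card K →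
        (¬ ∀ x y : L, x * y = y * x) → Row p L) → Row p K) : RowsI.{w} p where
  alt := alt
  psl2 := fun K _ _ _ h => PSLTwo.row_psl2 hp hp5 K h
  pslOwn := fun _ _ _ _ h => H451.Tor.row_pslOwn hp hp5 h
  pslCross := fun K _ _ _ h => PSLCross.row_pslCross hp hp5 K h
  pspOwn := fun _ _ _ _ h => H451.Tor.row_pspOwn h
  pspCross := fun _ _ _ _ r hr h => H451.Tor.row_pspCross hp hp5 r hr h
  psuOwn := fun _ _ _ _ h => H451.Tor.row_psuOwn h
  psuCross := fun _ _ _ _ r hr h => H880.Tor.row_psuCross hp hp5 r hr h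
  oddOwn := fun _ _ _ _ h => H451.Tor.row_oddOwn hp hp5 h
  oddCross := fun _ _ _ _ r hr h => H724.Tor.row_oddCross hp hp5 r hr h
  plusOwn := fun _ _ _ _ h => H451.Tor.row_plusOwn hp hp5 h
  plusCross := fun _ _ _ _ r hr h => H724.Tor.row_plusCross hp hp5 r hr h
  minusOwn := fun _ _ _ _ h => H451.Tor.row_minusOwn hp hp5 h
  minusCross := fun _ _ _ _ r hr h => H724.Tor.row_minusCross hp hp5 r hr h
  g2Own := fun _ _ _ _ h => H451.Tor.row_g2Own hp hp5 h
  f4Own := fun _ _ _ _ h => H451.Tor.row_f4Own hp hp5 h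
  e6Own := fun _ _ _ _ h => H451.Tor.row_e6Own hp hp5 h
  e7Own := fun _ _ _ _ h => H451.Tor.row_e7Own hp hp5 h
  e8Own := fun _ _ _ _ h => H451.Tor.row_e8Own hp hp5 h
  chevCross := fun _ _ _ _ r hr h => H733.Tor.row_chevCross hp hp5 r hr h
  twE6Own := fun _ _ _ _ h => H451.Tor.row_twE6Own hp hp5 h
  twD4Own := fun _ _ _ _ h => H451.Tor.row_twD4Own hp hp5 h
  twCross := fun _ _ _ _ r hr h => H733.Tor.row_twCross hp hp5 r hr h
  sz := fun _ _ _ _ h => H733.Tor.row_sz hp hp5 h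
  ree := fun _ _ _ _ h => H733.Tor.row_ree hp hp5 h
  twF4 := fun _ _ _ _ h => H733.Tor.row_twF4 hp hp5 h
  tits := tits
  spor := spor

end Cfsg.Agent.H103.Tor
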