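import Cfsg.Agent.H103.Tor.Count

/-!
# S3235: the row `PSL₂(F)` in cross characteristic (helper103)

`psl2_cross` : `Pr p A`, `A ≤ PSL₂(F)`, `(p : F) ≠ 0`, `4 ≤ |F|` ⇒ `p = 5` and `|F| = 4`.
-/

set_option autoImplicit false

namespace Cfsg.Agent.H103.Tor

open Subgroup Matrix
open Cfsg.Agent.H333.SLTwoLine (Ker1 tw u l d tw_range tw_apply exists_gen exists_lift exists_phi u_mul u_inv u_pow
  l_pow l_inv l_mul d_u d_l conj_u_of_col conj_l_of_col Line)

/-- it is enough to check normalisation for a generator -/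
theorem norm_of_gen {G : Type*} [Group G] {A N : Subgroup G} [Finite N] {a : G} (hA : A = zpowers a)
    (h : ∀ n ∈ N, a * n * a⁻¹ ∈ N) : ∀ b ∈ A, ∀ n ∈ N, b * n * b⁻¹ ∈ N := by
  have h1 : a ∈ normalizer (N : Set G) := by
    rw [Subgroup.mem_normalizer_iff_map_conj_eq]
    apply Subgroup.eq_of_le_of_card_ge
    · rintro _ ⟨n, hn, rfl⟩
      exact h n hn
    · exact le_of_eq (Subgroup.card_map_of_injective (MulAut.conj a).injective).symm
  have h2 : A ≤ normalizer (N : Set G) := by rw [hA, zpowers_le]; exact h1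
  intro b hb n hn
  exact (mem_normalizer_iff.1 (h2 hb) n).1 hn

namespace PSLTwo

variable {F : Type*} [Field F]

/-- the projection -/
abbrev pr : SpecialLinearGroup (Fin 2) F →* ProjectiveSpecialLinearGroup (Fin 2) F :=
  QuotientGroup.mk' (Subgroup.center (SpecialLinearGroup (Fin 2) F))

theorem pr_surj : Function.Surjective (pr : SpecialLinearGroup (Fin 2) F →* _) := QuotientGroup.mk'_surjective _

theorem pr_eq_one {g : SpecialLinearGroup (Fin 2) F} : pr g = 1 ↔ g = 1 ∨ g = -1 := by
  constructor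
  · intro h
    have h3 : g ∈ Subgroup.center (SpecialLinearGroup (Fin 2) F) := (QuotientGroup.eq_one_iff g).1 h
    obtain ⟨r, hr, hrx⟩ := Matrix.SpecialLinearGroup.mem_center_iff.1 h3
    have hr2 : r ^ 2 = 1 := by simpa using hr
    have h5 : (r - 1) * (r + 1) = 0 := by linear_combination hr2
    rcases mul_eq_zero.1 h5 with h4 | h4
    · left
      have hr1 : r = 1 := sub_eq_zero.1 h4
      apply Subtype.ext
      rw [← hrx, hr1]
      simp
    · right
      have hr1 : r = -1 := eq_neg_of_add_eq_zero_left h4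
      apply Subtype.ext
      rw [← hrx, hr1]
      ext i j
      fin_cases i <;> fin_cases j <;> simp
  · intro h
    rw [show pr g = QuotientGroup.mk' _ g from rfl, QuotientGroup.mk'_apply, QuotientGroup.eq_one_iff]
    rcases h with h | h
    · rw [h]; exact one_mem _
    · rw [h, Matrix.SpecialLinearGroup.mem_center_iff]
      refine ⟨-1, by simp, ?_⟩
      ext i j
      fin_cases i <;> fin_cases j <;> simp

theorem pr_eq {g h : SpecialLinearGroup (Fin 2) F} (e : pr g = pr h) : g = h ∨ g = -h := by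
  have h1 : pr (g * h⁻¹) = 1 := by rw [map_mul, map_inv, e, mul_inv_cancel]
  rcases pr_eq_one.1 h1 with h2 | h2
  · left; exact mul_inv_eq_one.1 h2
  · right
    have : g = g * h⁻¹ * h := by group
    rw [this, h2]; simp

theorem pr_neg (g : SpecialLinearGroup (Fin 2) F) : pr (-g) = pr g := by
  have : -g = (-1) * g := by simp
  rw [this, map_mul, pr_eq_one.2 (Or.inr rfl), one_mul]

/-- lifting an element of odd order -/
theorem exists_lift_odd {p : ℕ} (hp : Odd p) {a : ProjectiveSpecialLinearGroup (Fin 2) F} (ha : a ^ p = 1) :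
    ∃ g, pr g = a ∧ g ^ p = 1 := by
  obtain ⟨g, rfl⟩ := pr_surj a
  rw [← map_pow] at ha
  rcases pr_eq_one.1 ha with h | h
  · exact ⟨g, rfl, h⟩
  · exact ⟨-g, pr_neg g, by rw [hp.neg_pow, h, neg_neg]⟩

/-- `pr X = pr Y` with `X ^ p = Y ^ p = 1`, `p` odd -/
theorem eq_of_pr {p : ℕ} (hp : Odd p) {X Y : SpecialLinearGroup (Fin 2) F} (e : pr X = pr Y) (hX : X ^ p = 1)
    (hY : Y ^ p = 1) : X = Y := by
  rcases pr_eq e with h | h
  · exact h
  · rw [h, hp.neg_pow, hY] at hX
    rw [h]
    have : -Y = (-1) * Y := by simp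
    rw [this, hX, one_mul]

theorem trace_conj_SL (T g : SpecialLinearGroup (Fin 2) F) :
    (T * g * T⁻¹).1 0 0 + (T * g * T⁻¹).1 1 1 = g.1 0 0 + g.1 1 1 := by
  have h1 : Matrix.trace ((T * g * T⁻¹ : SpecialLinearGroup (Fin 2) F) : Matrix (Fin 2) (Fin 2) F) =
      Matrix.trace (g : Matrix (Fin 2) (Fin 2) F) := by
    rw [Matrix.SpecialLinearGroup.coe_mul, Matrix.SpecialLinearGroup.coe_mul, Matrix.trace_mul_comm, ← mul_assoc,
      ← Matrix.SpecialLinearGroup.coe_mul]
    simp
  rwa [Matrix.trace_fin_two, Matrix.trace_fin_two] at h1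

theorem det_eq (g : SpecialLinearGroup (Fin 2) F) : g.1 0 0 * g.1 1 1 - g.1 0 1 * g.1 1 0 = 1 := by
  have := g.2; rwa [Matrix.det_fin_two] at this

/-- an element commuting with `g`, with the same trace -/
theorem comm_lemma {g X : SpecialLinearGroup (Fin 2) F} (h5 : (5 : F) ≠ 0) (hg : g.1 1 0 ≠ 0) (hc : X * g = g * X)
    (ht : X.1 0 0 + X.1 1 1 = g.1 0 0 + g.1 1 1)
    (hτ : (g.1 0 0 + g.1 1 1) ^ 2 + (g.1 0 0 + g.1 1 1) - 1 = 0) : X = g ∨ X = g⁻¹ := by
  have hgd := det_eq g
  have hXd := det_eq X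
  have e := congrArg (fun m : SpecialLinearGroup (Fin 2) F => (m : Matrix (Fin 2) (Fin 2) F)) hc
  simp only [Matrix.SpecialLinearGroup.coe_mul] at e
  have e00 := congrFun (congrFun e 0) 0
  have e10 := congrFun (congrFun e 1) 0
  simp only [Matrix.mul_apply, Fin.sum_univ_two] at e00 e10
  set β := X.1 1 0 / g.1 1 0 with hβ
  set α := X.1 0 0 - β * g.1 0 0 with hα
  set τ := g.1 0 0 + g.1 1 1 with hτd
  have hX10 : X.1 1 0 = β * g.1 1 0 := by rw [hβ]; field_simp
  have hX00 : X.1 0 0 = α + β * g.1 0 0 := by rw [hα]; ring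
  have hX01 : X.1 0 1 = β * g.1 0 1 := by
    have : (X.1 0 1 - β * g.1 0 1) * g.1 1 0 = 0 := by rw [hX10] at e00; linear_combination e00
    rcases mul_eq_zero.1 this with h | h
    · exact sub_eq_zero.1 h
    · exact absurd h hg
  have hX11 : X.1 1 1 = α + β * g.1 1 1 := by
    have : (X.1 1 1 - (α + β * g.1 1 1)) * g.1 1 0 = 0 := by
      rw [hX10, hX00] at e10; linear_combination e10
    rcases mul_eq_zero.1 this with h | h
    · exact sub_eq_zero.1 h
    · exact absurd h hg
  have ht' : 2 * α + β * τ = τ := by rw [hX00, hX11] at ht; linear_combination ht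
  have hd' : α ^ 2 + α * β * τ + β ^ 2 = 1 := by
    rw [hX00, hX01, hX10, hX11] at hXd
    linear_combination hXd - β ^ 2 * hgd
  have hτ0 : τ ≠ 0 := by
    intro h; rw [h] at hτ; apply one_ne_zero (α := F); linear_combination -hτ
  have hext : ∀ {Y Z : SpecialLinearGroup (Fin 2) F}, Y.1 0 0 = Z.1 0 0 → Y.1 0 1 = Z.1 0 1 → Y.1 1 0 = Z.1 1 0 →
      Y.1 1 1 = Z.1 1 1 → Y = Z := by
    intro Y Z h1 h2 h3 h4
    apply Subtype.ext
    ext i j
    fin_cases i <;> fin_cases j <;> assumption
  have key : (α = 0 ∧ β = 1) ∨ (α = τ ∧ β = -1) := by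
    by_cases h2 : (2 : F) = 0
    · have h3 : (β - 1) * τ = 0 := by linear_combination ht' - α * h2
      have hβ1 : β = 1 := by
        rcases mul_eq_zero.1 h3 with h | h
        · exact sub_eq_zero.1 h
        · exact absurd h hτ0
      rw [hβ1] at hd'
      have h4 : α * (α + τ) = 0 := by linear_combination hd'
      rcases mul_eq_zero.1 h4 with h | h
      · exact Or.inl ⟨h, hβ1⟩
      · right
        refine ⟨by linear_combination h - τ * h2, by linear_combination hβ1 + h2⟩
    · have h3 : (1 - β) * (1 + β) * (τ ^ 2 - 4) = 0 := by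
        linear_combination (-(2 * α) - τ - β * τ) * ht' + 4 * hd'
      have h4 : τ ^ 2 - 4 ≠ 0 := by
        intro h4
        apply h5
        have h6 : τ = -3 := by linear_combination hτ - h4
        rw [h6] at hτ
        linear_combination hτ
      rcases mul_eq_zero.1 h3 with h6 | h6
      · rcases mul_eq_zero.1 h6 with h7 | h7
        · left
          have hβ1 : β = 1 := (sub_eq_zero.1 h7).symm
          rw [hβ1] at ht'
          have : (2 : F) * α = 0 := by linear_combination ht'
          rcases mul_eq_zero.1 this with h | h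
          · exact absurd h h2
          · exact ⟨h, hβ1⟩
        · right
          have hβ1 : β = -1 := eq_neg_of_add_eq_zero_right h7
          rw [hβ1] at ht'
          have : (2 : F) * (α - τ) = 0 := by linear_combination ht'
          rcases mul_eq_zero.1 this with h | h
          · exact absurd h h2
          · exact ⟨sub_eq_zero.1 h, hβ1⟩
      · exact absurd h6 h4
  rcases key with ⟨h1, h2⟩ | ⟨h1, h2⟩
  · left
    apply hext
    · rw [hX00, h1, h2]; ring
    · rw [hX01, h2]; ring
    · rw [hX10, h2]; ring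
    · rw [hX11, h1, h2]; ring
  · right
    have hi : ∀ i j, (g⁻¹).1 i j = (Matrix.adjugate g.1) i j := fun i j => rfl
    apply hext
    · rw [hX00, h1, h2, hi, Matrix.adjugate_fin_two]; simp [hτd]
    · rw [hX01, h2, hi, Matrix.adjugate_fin_two]; simp
    · rw [hX10, h2, hi, Matrix.adjugate_fin_two]; simp
    · rw [hX11, h1, h2, hi, Matrix.adjugate_fin_two]; simp [hτd]

/-- centralisers of non-scalar elements are commutative -/
theorem comm_trans {X g h : SpecialLinearGroup (Fin 2) F} (hX : X ≠ 1 ∧ X ≠ -1) (h1 : X * g = g * X)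
    (h2 : X * h = h * X) : g * h = h * g := by
  have hXd := det_eq X
  have e1 := congrArg (fun m : SpecialLinearGroup (Fin 2) F => (m : Matrix (Fin 2) (Fin 2) F)) h1
  have e2 := congrArg (fun m : SpecialLinearGroup (Fin 2) F => (m : Matrix (Fin 2) (Fin 2) F)) h2
  simp only [Matrix.SpecialLinearGroup.coe_mul] at e1 e2
  have a00 := congrFun (congrFun e1 0) 0
  have a01 := congrFun (congrFun e1 0) 1
  have a10 := congrFun (congrFun e1 1) 0
  have b00 := congrFun (congrFun e2 0) 0
  have b01 := congrFun (congrFun e2 0) 1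
  have b10 := congrFun (congrFun e2 1) 0
  simp only [Matrix.mul_apply, Fin.sum_univ_two] at a00 a01 a10 b00 b01 b10
  -- the three products
  have k1 : g.1 0 1 * h.1 1 0 = g.1 1 0 * h.1 0 1 ∧
      g.1 0 1 * (h.1 0 0 - h.1 1 1) = h.1 0 1 * (g.1 0 0 - g.1 1 1) ∧
      g.1 1 0 * (h.1 0 0 - h.1 1 1) = h.1 1 0 * (g.1 0 0 - g.1 1 1) := by
    by_cases c1 : X.1 0 1 = 0
    · by_cases c2 : X.1 1 0 = 0
      · have c3 : X.1 0 0 - X.1 1 1 ≠ 0 := by
          intro c3
          have c4 : X.1 0 0 = X.1 1 1 := sub_eq_zero.1 c3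
          have c5 : (X.1 0 0 - 1) * (X.1 0 0 + 1) = 0 := by
            rw [c1, c2, ← c4] at hXd; linear_combination hXd
          rcases mul_eq_zero.1 c5 with c6 | c6
          · apply hX.1
            apply Subtype.ext
            ext i j
            fin_cases i <;> fin_cases j
            · simpa using sub_eq_zero.1 c6
            · simpa using c1
            · simpa using c2
            · have : X.1 1 1 = 1 := by rw [← c4]; exact sub_eq_zero.1 c6
              simpa using this
          · apply hX.2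
            have c7 := eq_neg_of_add_eq_zero_left c6
            apply Subtype.ext
            ext i j
            fin_cases i <;> fin_cases j
            · simpa using c7
            · simpa using c1
            · simpa using c2
            · have : X.1 1 1 = -1 := by rw [← c4]; exact c7
              simpa using this
        rw [c1] at a01 b01
        rw [c2] at a10 b10
        have g01 : g.1 0 1 = 0 := by
          have : (X.1 0 0 - X.1 1 1) * g.1 0 1 = 0 := by linear_combination a01
          exact (mul_eq_zero.1 this).resolve_left c3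
        have g10 : g.1 1 0 = 0 := by
          have : (X.1 0 0 - X.1 1 1) * g.1 1 0 = 0 := by linear_combination -a10
          exact (mul_eq_zero.1 this).resolve_left c3
        have h01 : h.1 0 1 = 0 := by
          have : (X.1 0 0 - X.1 1 1) * h.1 0 1 = 0 := by linear_combination b01
          exact (mul_eq_zero.1 this).resolve_left c3
        have h10 : h.1 1 0 = 0 := by
          have : (X.1 0 0 - X.1 1 1) * h.1 1 0 = 0 := by linear_combination -b10
          exact (mul_eq_zero.1 this).resolve_left c3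
        rw [g01, g10, h01, h10]; simp
      · refine ⟨?_, ?_, ?_⟩
        · apply mul_left_cancel₀ c2
          apply mul_left_cancel₀ c2
          linear_combination (-(X.1 1 0 * h.1 1 0)) * a00 + (X.1 1 0 * g.1 1 0) * b00
        · apply mul_left_cancel₀ c2
          apply mul_left_cancel₀ c2
          have f1 : X.1 0 1 * g.1 1 0 = g.1 0 1 * X.1 1 0 := by linear_combination a00
          have f2 : X.1 0 1 * h.1 1 0 = h.1 0 1 * X.1 1 0 := by linear_combination b00
          have f3 : X.1 1 0 * (g.1 0 0 - g.1 1 1) = g.1 1 0 * (X.1 0 0 - X.1 1 1) := by linear_combination a10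
          have f4 : X.1 1 0 * (h.1 0 0 - h.1 1 1) = h.1 1 0 * (X.1 0 0 - X.1 1 1) := by linear_combination b10
          linear_combination (g.1 0 1 * X.1 1 0) * f4 - (h.1 0 1 * X.1 1 0) * f3 -
            (h.1 1 0 * (X.1 0 0 - X.1 1 1)) * f1 + (g.1 1 0 * (X.1 0 0 - X.1 1 1)) * f2
        · apply mul_left_cancel₀ c2
          have f3 : X.1 1 0 * (g.1 0 0 - g.1 1 1) = g.1 1 0 * (X.1 0 0 - X.1 1 1) := by linear_combination a10
          have f4 : X.1 1 0 * (h.1 0 0 - h.1 1 1) = h.1 1 0 * (X.1 0 0 - X.1 1 1) := by linear_combination b10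
          linear_combination g.1 1 0 * f4 - h.1 1 0 * f3
    · have f1 : X.1 0 1 * g.1 1 0 = g.1 0 1 * X.1 1 0 := by linear_combination a00
      have f2 : X.1 0 1 * h.1 1 0 = h.1 0 1 * X.1 1 0 := by linear_combination b00
      have f5 : X.1 0 1 * (g.1 0 0 - g.1 1 1) = g.1 0 1 * (X.1 0 0 - X.1 1 1) := by linear_combination -a01
      have f6 : X.1 0 1 * (h.1 0 0 - h.1 1 1) = h.1 0 1 * (X.1 0 0 - X.1 1 1) := by linear_combination -b01
      refine ⟨?_, ?_, ?_⟩
      · apply mul_left_cancel₀ c1
        linear_combination g.1 0 1 * f2 - h.1 0 1 * f1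
      · apply mul_left_cancel₀ c1
        linear_combination g.1 0 1 * f6 - h.1 0 1 * f5
      · apply mul_left_cancel₀ c1
        apply mul_left_cancel₀ c1
        linear_combination (X.1 0 1 * g.1 1 0) * f6 - (X.1 0 1 * h.1 1 0) * f5 +
          (h.1 0 1 * (X.1 0 0 - X.1 1 1)) * f1 - (g.1 0 1 * (X.1 0 0 - X.1 1 1)) * f2
  obtain ⟨k1, k2, k3⟩ := k1
  apply Subtype.ext
  rw [Matrix.SpecialLinearGroup.coe_mul, Matrix.SpecialLinearGroup.coe_mul]
  ext i j
  fin_cases i <;> fin_cases j
  · simp only [Matrix.mul_apply, Fin.sum_univ_two, Fin.zero_eta, Fin.isValue]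
    linear_combination k1
  · simp only [Matrix.mul_apply, Fin.sum_univ_two, Fin.zero_eta, Fin.isValue, Fin.mk_one]
    linear_combination -k2
  · simp only [Matrix.mul_apply, Fin.sum_univ_two, Fin.zero_eta, Fin.isValue, Fin.mk_one]
    linear_combination k3
  · simp only [Matrix.mul_apply, Fin.sum_univ_two, Fin.isValue, Fin.mk_one]
    linear_combination -k1

end PSLTwo

end Cfsg.Agent.H103.Tor
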