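import Cfsg.Agent.H103.Tor.Defs
import Cfsg.Agent.TwoFusion.SLTwoFacts
import Cfsg.Agent.S2540

/-!
# S3235: structure of a noncommuting pair (helper103)

* `exists_pair` : a noncommuting pair `A`, `B` of order `p` generating an `SLT` is the image of
  `⟨u x⟩`, `⟨l y⟩` under `φ : SL₂(K) →* G` with kernel in `{±1}`;
* `Pair.exists_sq` : torus element multiplying `A` by `s²` and with `t b^{s²} t⁻¹ = b`, `t^(p-1) = 1`;
* `Pair.perfect` : `X = A ⊔ B` is perfect; `Pair.not_solvable`, `Pair.not_comm`;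
* `SLT.of_phi` : converse of `exists_phi`;
* `Pr.map` : `Pr` passes to homomorphic images in which `A` is not killed.
-/

set_option autoImplicit false

namespace Cfsg.Agent.H103.Tor

open Subgroup Matrix
open Cfsg.Agent.H333.SLTwoLine (Ker1 tw u l d tw_range tw_apply exists_gen exists_lift exists_phi u_mul u_inv u_pow
  l_pow l_inv l_mul d_u d_l conj_u_of_col conj_l_of_col)

variable {G : Type*} [Group G] {H : Type*} [Group H]

theorem two_ne {p : ℕ} (hp : p.Prime) (hp5 : 5 ≤ p) {K : Type*} [Field K] [CharP K p] : (2 : K) ≠ 0 := by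
  intro h2
  have : ((2 : ℕ) : K) = 0 := by exact_mod_cast h2
  rw [CharP.cast_eq_zero_iff K p] at this
  have := Nat.le_of_dvd (by norm_num) this
  omega

/-- the Weyl element -/
def wl {K : Type*} [Field K] : SpecialLinearGroup (Fin 2) K := ⟨!![0, 1; -1, 0], by simp⟩

@[simp] theorem wl_coe {K : Type*} [Field K] :
    ((wl : SpecialLinearGroup (Fin 2) K) : Matrix (Fin 2) (Fin 2) K) = !![0, 1; -1, 0] := rfl

/-- structure of a noncommuting pair -/
def Pair (p : ℕ) (A B : Subgroup G) : Prop :=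
  ∃ (K : Type) (_ : Field K) (_ : Fintype K) (_ : CharP K p) (m : ℕ) (φ : SpecialLinearGroup (Fin 2) K →* G)
    (x y : K), 1 ≤ m ∧ Fintype.card K = p ^ m ∧ Ker1 φ ∧ φ.range = A ⊔ B ∧ x ≠ 0 ∧ y ≠ 0 ∧
      A = zpowers (φ (u x)) ∧ B = zpowers (φ (l y))

theorem exists_pair {p : ℕ} (hp : p.Prime) (hp5 : 5 ≤ p) {A B : Subgroup G} (hA : Nat.card A = p)
    (hB : Nat.card B = p) (h : SLT p ↥(A ⊔ B)) (hnc : ¬ Cm A B) : Pair p A B := by
  classical
  obtain ⟨K, _, _, m, hm, hK, h⟩ := h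
  obtain ⟨φ, hφ, hX⟩ := exists_phi (A ⊔ B) h
  have hpf := Fact.mk hp
  have hch : CharP K p := charP_of_card_eq_prime_pow hK
  have hp2 : p ≠ 2 := by omega
  have h20 : (2 : K) ≠ 0 := two_ne hp hp5
  obtain ⟨a, haA, hao, hAa⟩ := exists_gen hp A hA
  obtain ⟨h, b, hb, he⟩ := exists_lift hp hp2 hφ a (hX ▸ Subgroup.mem_sup_left haA) hao
  have hψ : Ker1 (tw φ h) := hφ.tw h
  have hr : (tw φ h).range = A ⊔ B := by rw [tw_range, hX]
  set ψ := tw φ h with hψd
  have he' : a = ψ (u b) := he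
  obtain ⟨c, hcB, hco, hBc⟩ := exists_gen hp B hB
  obtain ⟨k, b', hb', he2⟩ := exists_lift hp hp2 hψ c (hr ▸ Subgroup.mem_sup_right hcB) hco
  have hkd : k.1 0 0 * k.1 1 1 - k.1 0 1 * k.1 1 0 = 1 := by
    have := k.2; rwa [Matrix.det_fin_two] at this
  have hk10 : k.1 1 0 ≠ 0 := by
    intro h0
    have h1 : k * u b' * k⁻¹ = u (b' * (k.1 0 0) ^ 2) := by
      apply Subtype.ext
      rw [conj_u_of_col]
      ext i j; fin_cases i <;> fin_cases j <;> simp [h0]
    apply hnc
    have hcomm : Commute a c := by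
      show a * c = c * a
      rw [he', he2, h1, ← map_mul, ← map_mul, u_mul, u_mul, add_comm]
    intro x hx y hy
    rw [hAa] at hx; rw [hBc] at hy
    obtain ⟨i, rfl⟩ := hx
    obtain ⟨j, rfl⟩ := hy
    exact hcomm.zpow_zpow i j
  set s : K := k.1 0 0 / k.1 1 0 with hs
  have h3 : k * u b' * k⁻¹ = u s * l (-(b' * (k.1 1 0) ^ 2)) * (u s)⁻¹ := by
    apply Subtype.ext
    rw [conj_u_of_col, conj_l_of_col]
    ext i j
    fin_cases i <;> fin_cases j <;> simp [hs] <;> field_simp <;> ring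
  have h4 : ∀ x : K, u s * u x * (u s)⁻¹ = u x := by
    intro x; rw [u_mul, u_inv, u_mul]; congr 1; ring
  refine ⟨K, inferInstance, inferInstance, hch, m, tw ψ (u s), b, -(b' * (k.1 1 0) ^ 2), hm, hK, hψ.tw _,
    by rw [tw_range, hr], hb, neg_ne_zero.2 (mul_ne_zero hb' (pow_ne_zero 2 hk10)), ?_, ?_⟩
  · rw [hAa, tw_apply, h4, ← he']
  · rw [hBc, tw_apply, ← h3, ← he2]

theorem Pair.exists_sq {p : ℕ} (hp : p.Prime) (hp5 : 5 ≤ p) {A B : Subgroup G} (h : Pair p A B) (s : ℕ)
    (hs : ¬ p ∣ s) : ∃ t ∈ A ⊔ B, (∀ a ∈ A, t * a * t⁻¹ = a ^ (s ^ 2)) ∧ (∀ b ∈ B, t⁻¹ * b * t = b ^ (s ^ 2)) ∧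
      t ^ (p - 1) = 1 ∧ ∃ w ∈ A ⊔ B, w * t * w⁻¹ = t⁻¹ := by
  obtain ⟨K, _, _, _, m, φ, x, y, hm, hK, hφ, hX, hx, hy, hA, hB⟩ := h
  have hs0 : (s : K) ≠ 0 := by
    intro h0
    exact hs ((CharP.cast_eq_zero_iff K p s).1 h0)
  have hpf := Fact.mk hp
  obtain ⟨w, hw⟩ : ∃ w : SpecialLinearGroup (Fin 2) K, w * d (s : K) hs0 * w⁻¹ = (d (s : K) hs0)⁻¹ := by
    refine ⟨wl, ?_⟩
    rw [mul_inv_eq_iff_eq_mul]
    apply Subtype.ext
    ext i j
    fin_cases i <;> fin_cases j <;> simp [Matrix.mul_apply, Fin.sum_univ_two, Matrix.adjugate_fin_two]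
  refine ⟨φ (d s hs0), by rw [← hX]; exact ⟨_, rfl⟩, ?_, ?_, ?_, φ w, by rw [← hX]; exact ⟨_, rfl⟩, ?_⟩
  · intro a ha
    rw [hA] at ha
    obtain ⟨i, rfl⟩ := ha
    have h1 : φ (d s hs0) * φ (u x) * (φ (d s hs0))⁻¹ = φ (u x) ^ (s ^ 2) := by
      rw [← map_mul, ← map_inv, ← map_mul, d_u, ← map_pow, u_pow]; congr 2; push_cast; ring
    show φ (d s hs0) * φ (u x) ^ i * (φ (d s hs0))⁻¹ = (φ (u x) ^ i) ^ (s ^ 2)
    rw [← conj_zpow, h1, ← zpow_natCast, ← _root_.zpow_mul, ← zpow_natCast, ← _root_.zpow_mul, mul_comm]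
  · intro b hb
    rw [hB] at hb
    obtain ⟨i, rfl⟩ := hb
    have h1 : φ (d s hs0) * φ (l y) ^ (s ^ 2) * (φ (d s hs0))⁻¹ = φ (l y) := by
      rw [← map_pow, ← map_mul, ← map_inv, ← map_mul, l_pow, d_l]; congr 2; push_cast; field_simp
    have h2 : (φ (d s hs0))⁻¹ * φ (l y) * (φ (d s hs0)) = φ (l y) ^ (s ^ 2) := by
      generalize φ (d s hs0) = T at h1
      generalize φ (l y) = L at h1
      calc T⁻¹ * L * T = T⁻¹ * (T * L ^ (s ^ 2) * T⁻¹) * T := by rw [h1]
        _ = L ^ (s ^ 2) := by group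
    show (φ (d s hs0))⁻¹ * φ (l y) ^ i * (φ (d s hs0)) = (φ (l y) ^ i) ^ (s ^ 2)
    have h3 : (φ (d s hs0))⁻¹ * φ (l y) ^ i * (φ (d s hs0)) = ((φ (d s hs0))⁻¹ * φ (l y) * (φ (d s hs0))) ^ i := by
      have := conj_zpow (a := (φ (d s hs0))⁻¹) (b := φ (l y)) (i := i)
      rw [inv_inv] at this
      exact this.symm
    rw [h3, h2, ← zpow_natCast, ← _root_.zpow_mul, ← zpow_natCast, ← _root_.zpow_mul, mul_comm]
  · have h1 : (d (s : K) hs0) ^ (p - 1) = 1 := by
      have h2 : (s : K) ^ (p - 1) = 1 := by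
        have h3 : s ^ (p - 1) ≡ 1 [MOD p] :=
          Nat.ModEq.pow_card_sub_one_eq_one hp ((Nat.Prime.coprime_iff_not_dvd hp).2 hs).symm
        have h4 := (CharP.natCast_eq_natCast K p).2 h3
        simpa using h4
      have h5 : ∀ n : ℕ, ((d (s : K) hs0) ^ n : Matrix.SpecialLinearGroup (Fin 2) K) =
          d ((s : K) ^ n) (pow_ne_zero n hs0) := by
        intro n
        induction n with
        | zero =>
          apply Subtype.ext
          ext i j; fin_cases i <;> fin_cases j <;> simp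
        | succ n ih =>
          rw [pow_succ, ih]
          apply Subtype.ext
          ext i j; fin_cases i <;> fin_cases j <;>
            simp [Matrix.mul_apply, Fin.sum_univ_two, pow_succ, mul_comm]
      rw [h5]
      apply Subtype.ext
      ext i j; fin_cases i <;> fin_cases j <;> simp [h2]
    rw [← map_pow, h1, map_one]
  · have := congrArg φ hw
    simpa only [map_mul, map_inv] using this

theorem Pair.perfect {p : ℕ} (hp : p.Prime) (hp5 : 5 ≤ p) {A B : Subgroup G} (h : Pair p A B) :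
    ⁅A ⊔ B, A ⊔ B⁆ = A ⊔ B := by
  obtain ⟨K, _, _, _, m, φ, x, y, hm, hK, hφ, hX, hx, hy, hA, hB⟩ := h
  have h3 : 3 < Fintype.card K := by
    rw [hK]
    calc 3 < p := by omega
      _ = p ^ 1 := (pow_one p).symm
      _ ≤ p ^ m := Nat.pow_le_pow_right hp.pos hm
  have h1 := Cfsg.Agent.TwoFusion.SLTwoFacts.commutator_eq_top h3
  rw [← hX]
  have h2 : φ.range = (⊤ : Subgroup _).map φ := (MonoidHom.range_eq_map φ)
  rw [h2, ← Subgroup.map_commutator]
  rw [commutator_def] at h1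
  rw [h1]

theorem Pair.not_cm {p : ℕ} (hp : p.Prime) (hp5 : 5 ≤ p) {A B : Subgroup G} (h : Pair p A B)
    (hA : Nat.card A = p) : ¬ Cm A B := by
  intro hc
  have h1 := h.perfect hp hp5
  have h2 : ∀ x ∈ A ⊔ B, ∀ y ∈ A ⊔ B, x * y = y * x := by
    have hB : Nat.card B ≠ 0 → True := fun _ => trivial
    have hAA : Cm A A := Cm.self hp hA
    have hBB : Cm B B := by
      obtain ⟨K, _, _, _, m, φ, x, y, hm, hK, hφ, hX, hx, hy, hA, hB⟩ := h
      intro a ha b hb
      rw [hB] at ha hb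
      obtain ⟨i, rfl⟩ := ha
      obtain ⟨j, rfl⟩ := hb
      exact (Commute.refl (φ (l y))).zpow_zpow i j
    have h3 : A ⊔ B ≤ centralizer ((A ⊔ B : Subgroup G) : Set G) := by
      rw [sup_le_iff]
      constructor
      · rw [← Subgroup.le_centralizer_iff, sup_le_iff]
        constructor
        · intro a ha; rw [mem_centralizer_iff]; intro b hb; exact hAA _ hb _ ha
        · intro a ha; rw [mem_centralizer_iff]; intro b hb; exact hc _ hb _ ha
      · rw [← Subgroup.le_centralizer_iff, sup_le_iff]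
        constructor
        · intro a ha; rw [mem_centralizer_iff]; intro b hb; exact (hc _ ha _ hb).symm
        · intro a ha; rw [mem_centralizer_iff]; intro b hb; exact hBB _ hb _ ha
    intro x hx y hy
    exact (mem_centralizer_iff.1 (h3 hy) x hx)
  have h3 : ⁅A ⊔ B, A ⊔ B⁆ = ⊥ := by
    rw [eq_bot_iff, Subgroup.commutator_le]
    intro x hx y hy
    rw [mem_bot, commutatorElement_eq_one_iff_mul_comm]
    exact h2 x hx y hy
  rw [h3] at h1
  have h4 : A = ⊥ := by
    rw [eq_bot_iff, h1]; exact le_sup_left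
  rw [h4, Subgroup.card_bot] at hA
  exact hp.one_lt.ne hA

theorem Pair.not_solvable {p : ℕ} (hp : p.Prime) (hp5 : 5 ≤ p) {A B : Subgroup G} (h : Pair p A B)
    (hA : Nat.card A = p) {X : Subgroup G} (hX : A ⊔ B ≤ X) : ¬ Group.IsSolvable X := by
  intro hs
  have h1 := h.perfect hp hp5
  have h0 : Group.IsSolvable ↥(A ⊔ B) := by
    have := hs
    exact Group.isSolvable_of_isSolvable_injective (f := Subgroup.inclusion hX) (Subgroup.inclusion_injective hX)
  have h2 : ∀ n, (A ⊔ B) ≤ (derivedSeries ↥(A ⊔ B) n).map (A ⊔ B).subtype := by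
    intro n
    induction n with
    | zero =>
      rw [derivedSeries_zero, ← MonoidHom.range_eq_map, Subgroup.range_subtype]
    | succ n ih =>
      rw [derivedSeries_succ, Subgroup.map_commutator]
      calc A ⊔ B = ⁅A ⊔ B, A ⊔ B⁆ := h1.symm
        _ ≤ _ := Subgroup.commutator_mono ih ih
  obtain ⟨n, hn⟩ := (Group.isSolvable_def _).1 h0
  have h3 := h2 n
  rw [hn, Subgroup.map_bot] at h3
  have h4 : A = ⊥ := by
    rw [eq_bot_iff]; exact le_trans le_sup_left h3
  rw [h4, Subgroup.card_bot] at hA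
  exact hp.one_lt.ne hA

theorem Pair.map {p : ℕ} (hp : p.Prime) (hp5 : 5 ≤ p) {A B : Subgroup G} (h : Pair p A B) (f : G →* H)
    (hf : ¬ A ≤ f.ker) : Pair p (A.map f) (B.map f) := by
  obtain ⟨K, _, _, _, m, φ, x, y, hm, hK, hφ, hX, hx, hy, hA, hB⟩ := h
  have h3 : 3 < Fintype.card K := by
    rw [hK]
    calc 3 < p := by omega
      _ = p ^ 1 := (pow_one p).symm
      _ ≤ p ^ m := Nat.pow_le_pow_right hp.pos hm
  refine ⟨K, inferInstance, inferInstance, inferInstance, m, f.comp φ, x, y, hm, hK, ?_, ?_, hx, hy, ?_, ?_⟩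
  · have hN : ((f.comp φ).ker).Normal := inferInstance
    rcases Cfsg.Agent.S2540.normal_dichotomy (Cfsg.Agent.TwoFusion.SLTwoFacts.commutator_eq_top h3)
      (Cfsg.Agent.TwoFusion.SLTwoFacts.isSimpleGroup_psl h3) (f.comp φ).ker with h1 | h1
    · intro z hz
      have h2 : z ∈ Subgroup.center (SpecialLinearGroup (Fin 2) K) := h1 (MonoidHom.mem_ker.2 hz)
      obtain ⟨r, hr, hrx⟩ := Matrix.SpecialLinearGroup.mem_center_iff.1 h2
      have hr2 : r ^ 2 = 1 := by simpa using hr
      have h5 : (r - 1) * (r + 1) = 0 := by linear_combination hr2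
      rcases mul_eq_zero.1 h5 with h4 | h4
      · left
        have hr1 : r = 1 := sub_eq_zero.1 h4
        apply Subtype.ext
        rw [← hrx, hr1]
        simp
      · right
        have hr1 : r = -1 := eq_neg_of_add_eq_zero_left h4
        apply Subtype.ext
        rw [← hrx, hr1]
        ext i j
        fin_cases i <;> fin_cases j <;> simp
    · exfalso
      apply hf
      rw [hA, zpowers_le, MonoidHom.mem_ker]
      have : u x ∈ (f.comp φ).ker := by rw [h1]; trivial
      exact this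
  · rw [← Subgroup.map_sup, ← hX]
    exact (MonoidHom.map_range f φ).symm
  · rw [hA, MonoidHom.map_zpowers]; rfl
  · rw [hB, MonoidHom.map_zpowers]; rfl

theorem SLT.of_phi {p : ℕ} (hp : p.Prime) (hp5 : 5 ≤ p) {K : Type} [Field K] [Fintype K] [CharP K p] {m : ℕ}
    (hm : 1 ≤ m) (hK : Fintype.card K = p ^ m) {φ : SpecialLinearGroup (Fin 2) K →* G} (hφ : Ker1 φ)
    {X : Subgroup G} (hX : φ.range = X) : SLT p X := by
  classical
  subst hX
  have h20 : (2 : K) ≠ 0 := two_ne hp hp5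
  by_cases h : φ (-1) = 1
  · refine ⟨K, inferInstance, inferInstance, m, hm, hK, Or.inl ⟨?_⟩⟩
    have hker : φ.ker = Subgroup.center (SpecialLinearGroup (Fin 2) K) := by
      ext z
      rw [MonoidHom.mem_ker]
      constructor
      · intro hz
        rcases hφ z hz with h1 | h1
        · rw [h1]; exact one_mem _
        · rw [h1, Matrix.SpecialLinearGroup.mem_center_iff]
          refine ⟨-1, by simp, ?_⟩
          ext i j
          fin_cases i <;> fin_cases j <;> simp
      · intro hz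
        obtain ⟨r, hr, hrx⟩ := Matrix.SpecialLinearGroup.mem_center_iff.1 hz
        have hr2 : r ^ 2 = 1 := by simpa using hr
        have h5 : (r - 1) * (r + 1) = 0 := by linear_combination hr2
        rcases mul_eq_zero.1 h5 with h4 | h4
        · have hr1 : r = 1 := sub_eq_zero.1 h4
          have : z = 1 := by
            apply Subtype.ext
            rw [← hrx, hr1]
            simp
          rw [this, map_one]
        · have hr1 : r = -1 := eq_neg_of_add_eq_zero_left h4
          have : z = -1 := by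
            apply Subtype.ext
            rw [← hrx, hr1]
            ext i j
            fin_cases i <;> fin_cases j <;> simp
          rw [this, h]
    exact ((QuotientGroup.quotientMulEquivOfEq hker).symm.trans (QuotientGroup.quotientKerEquivRange φ)).symm
  · refine ⟨K, inferInstance, inferInstance, m, hm, hK, Or.inr ⟨?_⟩⟩
    have hinj : Function.Injective φ := by
      rw [injective_iff_map_eq_one]
      intro z hz
      rcases hφ z hz with h1 | h1
      · exact h1
      · rw [h1] at hz; exact absurd hz h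
    exact (MonoidHom.ofInjective hinj).symm

theorem Pair.slt {p : ℕ} (hp : p.Prime) (hp5 : 5 ≤ p) {A B : Subgroup G} (h : Pair p A B) : SLT p ↥(A ⊔ B) := by
  obtain ⟨K, _, _, _, m, φ, x, y, hm, hK, hφ, hX, hx, hy, hA, hB⟩ := h
  exact SLT.of_phi hp hp5 hm hK hφ hX

theorem Pr.card_cj {p : ℕ} {A : Subgroup G} (h : Pr p A) (g : G) : Nat.card ↥(cj g A) = p := by
  rw [Tor.card_cj, h.card]

/-- a noncommuting pair of conjugates -/
theorem Pr.exists_pair {p : ℕ} (hp : p.Prime) (hp5 : 5 ≤ p) {A : Subgroup G} (h : Pr p A) {g : G}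
    (hg : ¬ Cm A (cj g A)) : Pair p A (cj g A) :=
  Tor.exists_pair hp hp5 h.card (h.card_cj g) ((h.pair g).resolve_left hg) hg

/-- `Pr` passes to homomorphic images in which `A` is not killed -/
theorem Pr.map {p : ℕ} (hp : p.Prime) (hp5 : 5 ≤ p) {A : Subgroup G} (h : Pr p A) (f : G →* H)
    (hsurj : Function.Surjective f) (hf : ¬ A ≤ f.ker) : Pr p (A.map f) := by
  have hpf := Fact.mk hp
  refine ⟨?_, fun q => ?_⟩
  · have h1 : Nat.card (A.map f) ∣ p := by rw [← h.card]; exact Subgroup.card_map_dvd A f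
    rcases (Nat.dvd_prime hp).1 h1 with h2 | h2
    · exfalso
      apply hf
      rw [Subgroup.card_eq_one, Subgroup.map_eq_bot_iff] at h2
      exact h2
    · exact h2
  · obtain ⟨g, rfl⟩ := hsurj q
    rw [← map_cj]
    by_cases hc : Cm A (cj g A)
    · exact Or.inl (hc.map f)
    · right
      exact ((h.exists_pair hp hp5 hc).map hp hp5 f hf).slt hp hp5

end Cfsg.Agent.H103.Tor
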